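import Groth.Agent.FlatTrace.Germ

/-!
# The trace at an algebraically closed point
-/

set_option autoImplicit false

universe u

open CategoryTheory CategoryTheory.Limits AlgebraicGeometry Opposite TopologicalSpace

noncomputable section

namespace Groth.Agent.FlatTrace

open EtaleSite PunctLib Wt Wt.GeomPts

variable {X S : Scheme.{u}} (f : X ⟶ S) [IsFinite f] [Flat f] [LocallyOfFinitePresentation f]
  {Ω : Type u} [Field Ω] [IsAlgClosed Ω] {η : Spec (CommRingCat.of Ω) ⟶ S}

theorem stalk_tr (F : EtCoh.Ab S) :
    (EtCoh.stalk η).map ((tr f).app F) = traceAt f F := by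
  ext p
  obtain ⟨V, t, s, rfl⟩ := exists_germ_eq η _ p
  obtain ⟨V', e, v', hv', a, ha⟩ := exists_local f F s (PunctLib.pt t)
  obtain ⟨t', ht', -⟩ := exists_lift e t v' hv'
  let s' := ((EtCoh.pull f ⋙ EtCoh.push f).obj F).obj.map e.op s
  have h1 : ((tr f).app F).hom.app (op V') s' = a := by
    refine sub_eq_zero.1 (eq_zero_of_germs F _ fun y w => ?_)
    rw [map_sub, sub_eq_zero]
    refine (germ_naturality _ ((tr f).app F) V' w s').symm.trans ?_
    refine (ConcreteCategory.congr_hom ((exists_tr f F).choose_spec y) _).trans ?_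
    exact ha _ (acPoint S y) w
  subst ht'
  refine (congrArg ((EtCoh.stalk η).map ((tr f).app F)) (germ_res η _ e t' s).symm).trans ?_
  refine Eq.trans ?_ (congrArg (traceAt f F) (germ_res η _ e t' s))
  refine (germ_naturality η ((tr f).app F) V' t' s').trans ?_
  exact (congrArg (germ η F V' t') h1).trans (ha Ω η t').symm

end Groth.Agent.FlatTrace
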