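import Groth.Agent.PunctLib.Sky
import Groth.Agent.EtaleSite.PushFiber
import Groth.Agent.EtaleSite.SplitScheme
import Groth.Agent.EtaleSite.Clopen
import Groth.Agent.Wt.Apply
import Groth.Agent.Wt.FlatWt
import Mathlib.CategoryTheory.Filtered.Basic
import Mathlib.AlgebraicGeometry.PullbackCarrier

/-!
# The trace `f_* f^* ⟶ id` of a finite flat morphism

At an algebraically closed point `η` it sends a germ to the sum over the points `ξ` above `η` of
the weight of `ξ` times the germ at `ξ`.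
-/

set_option autoImplicit false

universe u

open CategoryTheory CategoryTheory.Limits AlgebraicGeometry Opposite TopologicalSpace

noncomputable section

namespace Groth.Agent.FlatTrace

open EtaleSite EtaleSite.Flasque PunctLib Wt Wt.GeomPts

/-- The geometric point over a point, with values in an algebraic closure. -/
def acPoint (S : Scheme.{u}) (y : S) :
    Spec (CommRingCat.of (AlgebraicClosure (S.residueField y))) ⟶ S :=
  (exists_geomPt y).choose

theorem acPoint_apply (S : Scheme.{u}) (y : S) : acPoint S y default = y := by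
  refine Eq.trans ?_ (exists_geomPt y).choose_spec
  exact congrArg (fun o => acPoint S y o)
    (Subsingleton.elim (α := Spec (CommRingCat.of (AlgebraicClosure (S.residueField y)))) _ _)

/-- A section with vanishing germs at the points `acPoint` is zero. -/
theorem eq_zero_of_germs {S : Scheme.{u}} (F : EtCoh.Ab S) {U : S.Etale} (s : F.obj.obj (op U))
    (h : ∀ (y : S) (t : (Scheme.pointSmallEtale (acPoint S y)).fiber.obj U),
      germ (acPoint S y) F U t s = 0) : s = 0 := by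
  refine sect_ext s 0 fun Ω _ _ ξ x => ?_
  rw [map_zero]
  obtain ⟨t, ht⟩ := exists_fiber_point (acPoint S (U.hom (pt x))) U (pt x)
    (acPoint_apply S _).symm
  obtain ⟨O, hO, hO'⟩ := exists_open_germ_eq_zero F t s (h _ t)
  exact hO' Ω ξ x (ht ▸ hO)

theorem hom_ext_acPoint {S : Scheme.{u}} {F G : EtCoh.Ab S} (a b : F ⟶ G)
    (h : ∀ y : S, (EtCoh.stalk (acPoint S y)).map a = (EtCoh.stalk (acPoint S y)).map b) : a = b := by
  rw [← sub_eq_zero]
  ext U s
  refine eq_zero_of_germs (U := U.unop) G _ fun y t => ?_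
  rw [← germ_naturality, Functor.map_sub, h y, sub_self]
  rfl

/-- The product of the skyscrapers of the stalks at the points `acPoint`. -/
abbrev God {S : Scheme.{u}} (F : EtCoh.Ab S) : EtCoh.Ab S :=
  ∏ᶜ fun y : S => sky (acPoint S y) ((EtCoh.stalk (acPoint S y)).obj F)

/-- The canonical map. -/
def toGod {S : Scheme.{u}} (F : EtCoh.Ab S) : F ⟶ God F :=
  Pi.lift fun y => toSky (acPoint S y) (𝟙 _)

theorem god_comp_apply {S : Scheme.{u}} {G F : EtCoh.Ab S}
    (c : ∀ y : S, (EtCoh.stalk (acPoint S y)).obj G ⟶ (EtCoh.stalk (acPoint S y)).obj F)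
    {U : S.Etale} (s : G.obj.obj (op U)) (y : S)
    (t : (Scheme.pointSmallEtale (acPoint S y)).fiber.obj U) :
    comp (acPoint S y) t ((Pi.π _ y : God F ⟶ _).hom.app (op U)
      ((Pi.lift fun y => toSky (acPoint S y) (c y) : G ⟶ God F).hom.app (op U) s)) =
      c y (germ (acPoint S y) G U t s) := by
  rw [← toSky_comp_apply]
  refine congrArg (comp (acPoint S y) t) ?_
  exact congrArg (fun k : G ⟶ sky (acPoint S y) _ => k.hom.app (op U) s)
    (Pi.lift_π (fun y => toSky (acPoint S y) (c y)) y)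

theorem god_ext {S : Scheme.{u}} {F : EtCoh.Ab S} {U : S.Etale} (q q' : (God F).obj.obj (op U))
    (h : ∀ y, (Pi.π _ y : God F ⟶ _).hom.app (op U) q = (Pi.π _ y : God F ⟶ _).hom.app (op U) q') :
    q = q' := by
  obtain ⟨ψ, rfl⟩ := (freeSec_bijective U (God F)).2 q
  obtain ⟨ψ', rfl⟩ := (freeSec_bijective U (God F)).2 q'
  refine congrArg _ (Pi.hom_ext _ _ fun y => (freeSec_bijective U _).1 ?_)
  rw [freeSec_comp, freeSec_comp]
  exact h y

instance mono_toGod {S : Scheme.{u}} (F : EtCoh.Ab S) : Mono (toGod F) := by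
  refine mono_of_stalk _ fun Ω _ _ ξ => (injective_iff_map_eq_zero _).2 fun p hp => ?_
  obtain ⟨U, t, s, rfl⟩ := exists_germ_eq ξ F p
  rw [germ_naturality] at hp
  obtain ⟨V, g, v, hv, e⟩ := (germ_eq_zero_iff (God F) t _).1 hp
  refine (germ_eq_zero_iff F t s).2 ⟨V, g, v, hv, eq_zero_of_germs F _ fun y w => ?_⟩
  have h1 := god_comp_apply (fun y => 𝟙 ((EtCoh.stalk (acPoint S y)).obj F)) (F.obj.map g.op s) y w
  refine h1.symm.trans ?_
  have h2 : (toGod F).hom.app (op V) (F.obj.map g.op s) = 0 := by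
    rw [NatTrans.naturality_apply]; exact e
  exact (congrArg (fun q => comp (acPoint S y) w ((Pi.π _ y : God F ⟶ _).hom.app (op V) q)) h2).trans
    (by rw [map_zero, map_zero])

section

variable {X S : Scheme.{u}} (f : X ⟶ S) {Ω : Type u} [Field Ω] [IsAlgClosed Ω]
  {η : Spec (CommRingCat.of Ω) ⟶ S}

/-- The stalk of an inverse image at a point above `η`. -/
def pullAt (ξ : GeomFib f η) :
    EtCoh.pull f ⋙ EtCoh.stalk ξ.1 ≅ EtCoh.stalk η :=
  stalkPullIso f ξ.1 ≪≫ eqToIso (congrArg (fun z => EtCoh.stalk z) ξ.2)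

/-- The germ at a point above `η` of a section of the direct image. -/
def compAt (ξ : GeomFib f η) (F : EtCoh.Ab S) :
    (EtCoh.stalk η).obj ((EtCoh.pull f ⋙ EtCoh.push f).obj F) ⟶ (EtCoh.stalk η).obj F :=
  cmpAt f ξ.1 ξ.2 ((EtCoh.pull f).obj F) ≫ (pullAt f ξ).hom.app F

theorem compAt_germ (ξ : GeomFib f η) (F : EtCoh.Ab S) (V : S.Etale)
    (t : (Scheme.pointSmallEtale η).fiber.obj V)
    (s : ((EtCoh.pull f ⋙ EtCoh.push f).obj F).obj.obj (op V)) :
    compAt f ξ F (germ η ((EtCoh.pull f ⋙ EtCoh.push f).obj F) V t s) =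
      (pullAt f ξ).hom.app F (germ ξ.1 ((EtCoh.pull f).obj F) ((EtCoh.bc f).obj V) (bcPt f ξ.1 ξ.2 V t) s) :=
  congrArg ((pullAt f ξ).hom.app F) (cmpAt_germ f ξ.1 ξ.2 ((EtCoh.pull f).obj F) V t s)

theorem pullAt_germ_unit_aux (ξ : Spec (CommRingCat.of Ω) ⟶ X) (hξ : ξ ≫ f = η) (F : EtCoh.Ab S)
    (V : S.Etale) (t : (Scheme.pointSmallEtale η).fiber.obj V) (s : F.obj.obj (op V)) :
    (stalkPullIso f ξ ≪≫ eqToIso (congrArg (fun z => EtCoh.stalk z) hξ)).hom.app F
      (germ ξ ((EtCoh.pull f).obj F) ((EtCoh.bc f).obj V) (bcPt f ξ hξ V t)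
        (((EtCoh.pullPushAdj f).unit.app F).hom.app (op V) s)) = germ η F V t s := by
  subst hξ
  simp only [eqToIso_refl, Iso.trans_refl]
  refine (congrArg ((stalkPullIso f ξ).hom.app F) (germ_stalkPullIso_inv f ξ F V t s).symm).trans ?_
  exact ConcreteCategory.congr_hom ((stalkPullIso f ξ).inv_hom_id_app F) _

theorem pullAt_germ_unit (ξ : GeomFib f η) (F : EtCoh.Ab S)
    (V : S.Etale) (t : (Scheme.pointSmallEtale η).fiber.obj V) (s : F.obj.obj (op V)) :
    (pullAt f ξ).hom.app F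
      (germ ξ.1 ((EtCoh.pull f).obj F) ((EtCoh.bc f).obj V) (bcPt f ξ.1 ξ.2 V t)
        (((EtCoh.pullPushAdj f).unit.app F).hom.app (op V) s)) = germ η F V t s :=
  pullAt_germ_unit_aux f ξ.1 ξ.2 F V t s

theorem unit_compAt (ξ : GeomFib f η) (F : EtCoh.Ab S) :
    (EtCoh.stalk η).map ((EtCoh.pullPushAdj f).unit.app F) ≫ compAt f ξ F = 𝟙 _ := by
  refine (Scheme.pointSmallEtale η).presheafFiber_hom_ext fun V t => ?_
  ext s
  exact (congrArg (compAt f ξ F) (germ_naturality η ((EtCoh.pullPushAdj f).unit.app F) V t s)).trans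
    ((compAt_germ f ξ F V t _).trans (pullAt_germ_unit f ξ F V t s))

theorem compAt_naturality (ξ : GeomFib f η) {F G : EtCoh.Ab S} (a : F ⟶ G) :
    (EtCoh.stalk η).map ((EtCoh.pull f ⋙ EtCoh.push f).map a) ≫ compAt f ξ G =
      compAt f ξ F ≫ (EtCoh.stalk η).map a := by
  refine (Scheme.pointSmallEtale η).presheafFiber_hom_ext fun V t => ?_
  ext s
  refine (congrArg (compAt f ξ G)
    (germ_naturality η ((EtCoh.pull f ⋙ EtCoh.push f).map a) V t s)).trans ?_
  refine (compAt_germ f ξ G V t _).trans ?_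
  refine Eq.trans ?_ (congrArg ((EtCoh.stalk η).map a) (compAt_germ f ξ F V t s)).symm
  refine (congrArg ((pullAt f ξ).hom.app G)
    (germ_naturality ξ.1 ((EtCoh.pull f).map a) _ _ s).symm).trans ?_
  exact NatTrans.naturality_apply (pullAt f ξ).hom a _

/-- The trace on the stalk at an algebraically closed point. -/
def traceAt (F : EtCoh.Ab S) :
    (EtCoh.stalk η).obj ((EtCoh.pull f ⋙ EtCoh.push f).obj F) ⟶ (EtCoh.stalk η).obj F :=
  ∑ᶠ ξ : GeomFib f η, FlatWt.wt f (pt ξ.1) • compAt f ξ F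

variable [IsFinite f]

omit [IsAlgClosed Ω] in
theorem finite_fib (y : S) : Finite {u // f u = y} := (f.finite_preimage_singleton y).to_subtype

instance finite_geomFib' : Finite (GeomFib f η) :=
  have := finite_fib f (pt η)
  GeomPts.finite_geomFib f η

theorem traceAt_apply (F : EtCoh.Ab S) (p) :
    traceAt f (η := η) F p = ∑ᶠ ξ : GeomFib f η, FlatWt.wt f (pt ξ.1) • compAt f ξ F p := by
  have := Fintype.ofFinite (GeomFib f η)
  rw [traceAt, finsum_eq_sum_of_fintype, finsum_eq_sum_of_fintype]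
  exact map_sum (AddMonoidHom.mk' (fun k : (EtCoh.stalk η).obj ((EtCoh.pull f ⋙ EtCoh.push f).obj F) ⟶
    (EtCoh.stalk η).obj F => k p) (fun _ _ => rfl)) _ _

theorem traceAt_naturality {F G : EtCoh.Ab S} (a : F ⟶ G) :
    (EtCoh.stalk η).map ((EtCoh.pull f ⋙ EtCoh.push f).map a) ≫ traceAt f G =
      traceAt f F ≫ (EtCoh.stalk η).map a := by
  have := Fintype.ofFinite (GeomFib f η)
  simp only [traceAt, finsum_eq_sum_of_fintype, Preadditive.comp_sum, Preadditive.sum_comp]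
  refine Finset.sum_congr rfl fun ξ _ => ?_
  rw [Preadditive.comp_zsmul, Preadditive.zsmul_comp, compAt_naturality]

theorem unit_traceAt [Flat f] (F : EtCoh.Ab S) :
    (EtCoh.stalk η).map ((EtCoh.pullPushAdj f).unit.app F) ≫ traceAt f F =
      (f.finrank (pt η) : ℤ) • 𝟙 _ := by
  have := finite_fib f (pt η)
  have := Fintype.ofFinite (GeomFib f η)
  simp only [traceAt, finsum_eq_sum_of_fintype, Preadditive.comp_sum, Preadditive.comp_zsmul,
    unit_compAt, ← Finset.sum_smul]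
  rw [← FlatWt.fibreIntegral_eq_finrank f (pt η), ← geomInt_eq_fibreIntegral f η, geomInt,
    finsum_eq_sum_of_fintype]

set_option maxHeartbeats 1000000 in
/-- Locally on the base, the traces of the germs of a section are the germs of a section. -/
theorem exists_local [Flat f] [LocallyOfFinitePresentation f] (F : EtCoh.Ab S) {V : S.Etale}
    (s : ((EtCoh.pull f ⋙ EtCoh.push f).obj F).obj.obj (op V)) (v : V.left) :
    ∃ (V' : S.Etale) (e : V' ⟶ V) (v' : V'.left), e.left v' = v ∧ ∃ a : F.obj.obj (op V'),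
      ∀ (Ω : Type u) [Field Ω] [IsAlgClosed Ω] (η : Spec (CommRingCat.of Ω) ⟶ S)
        (t : (Scheme.pointSmallEtale η).fiber.obj V'),
        traceAt f F (germ η _ V' t (((EtCoh.pull f ⋙ EtCoh.push f).obj F).obj.map e.op s)) =
          germ η F V' t a := by
  classical
  obtain ⟨y₀, hy₀⟩ := exists_geomPt v
  let η := y₀ ≫ (V.hom : V.left ⟶ S)
  let φ₀ : (Scheme.pointSmallEtale η).fiber.obj V :=
    (Over.homMk y₀ rfl : Over.mk η ⟶ (Scheme.Etale.forget S).obj V)
  choose U x b hb using fun ξ : GeomFib f η =>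
    exists_germ_eq η F (compAt f ξ F (germ η _ V φ₀ s))
  have := Fintype.ofFinite (GeomFib f η)
  let P : S.Etale ⥤ Type u := (Scheme.pointSmallEtale η).fiber
  obtain ⟨M, hM⟩ := IsCofiltered.inf_objs_exists (C := P.Elements)
    (insert (⟨V, φ₀⟩ : P.Elements) (Finset.univ.image fun ξ => (⟨U ξ, x ξ⟩ : P.Elements)))
  obtain ⟨e₀⟩ := hM (Finset.mem_insert_self _ _)
  have hMξ : ∀ ξ, Nonempty (M ⟶ (⟨U ξ, x ξ⟩ : P.Elements)) := fun ξ =>
    hM (Finset.mem_insert_of_mem (Finset.mem_image_of_mem _ (Finset.mem_univ ξ)))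
  let eξ := fun ξ => (hMξ ξ).some
  let G := (EtCoh.pull f).obj F
  let V₁ := M.1
  let t₁ : (Scheme.pointSmallEtale η).fiber.obj V₁ := M.2
  let y₁ : Spec (CommRingCat.of (AlgebraicClosure (V.left.residueField v))) ⟶ V₁.left :=
    (show Over.mk η ⟶ (Scheme.Etale.forget S).obj V₁ from t₁).left
  have hy₁ : y₁ ≫ (V₁.hom : V₁.left ⟶ S) = η :=
    Over.w (show Over.mk η ⟶ (Scheme.Etale.forget S).obj V₁ from t₁)
  let P₁ := (EtCoh.bc f).obj V₁
  let s₁ : G.obj.obj (op P₁) := G.obj.map ((EtCoh.bc f).map e₀.1).op s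
  let a₁ := fun ξ => F.obj.map (eξ ξ).1.op (b ξ)
  let u₁ : ∀ ξ, G.obj.obj (op P₁) := fun ξ =>
    ((EtCoh.pullPushAdj f).unit.app F).hom.app (op V₁) (a₁ ξ)
  have key : ∀ ξ : GeomFib f η, germ ξ.1 G P₁ (bcPt f ξ.1 ξ.2 V₁ t₁) s₁ =
      germ ξ.1 G P₁ (bcPt f ξ.1 ξ.2 V₁ t₁) (u₁ ξ) := fun ξ => by
    refine (cmpAt_germ f ξ.1 ξ.2 G V₁ t₁ s₁).symm.trans (Eq.trans ?_ (cmpAt_germ f ξ.1 ξ.2 G V₁ t₁ (u₁ ξ)))
    refine (ConcreteCategory.bijective_of_isIso ((pullAt f ξ).hom.app F)).1 ?_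
    refine Eq.trans (b := compAt f ξ F (germ η _ V φ₀ s)) ?_ ?_
    · refine congrArg (compAt f ξ F) ?_
      refine (germ_res η ((EtCoh.pull f ⋙ EtCoh.push f).obj F) e₀.1 t₁ s).trans ?_
      exact congrArg (fun q => germ η ((EtCoh.pull f ⋙ EtCoh.push f).obj F) V q s) e₀.2
    · refine Eq.trans ?_ (congrArg ((pullAt f ξ).hom.app F) (cmpAt_germ f ξ.1 ξ.2 G V₁ t₁ (u₁ ξ))).symm
      refine Eq.trans ?_ (pullAt_germ_unit f ξ F V₁ t₁ (a₁ ξ)).symm
      refine Eq.trans ?_ (germ_res η F (eξ ξ).1 t₁ (b ξ)).symm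
      exact (hb ξ).symm.trans (congrArg (fun q => germ η F (U ξ) q (b ξ)) (eξ ξ).2.symm)
  choose W k w hw hk using fun ξ : GeomFib f η => (germ_eq_iff ξ.1 G P₁ _ s₁ (u₁ ξ)).1 (key ξ)
  let g : (∐ fun ξ => (W ξ).left) ⟶ P₁.left := Sigma.desc fun ξ => (k ξ).left
  have : ∀ ξ, Etale (k ξ).left := fun ξ => etale_left (k ξ)
  have : Etale g := etale_sigmaDesc _
  let p₁ : P₁.left ⟶ V₁.left := pullback.fst V₁.hom f
  have : IsFinite p₁ := MorphismProperty.pullback_fst _ _ ‹IsFinite f›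
  let idx : ∀ z : Spec (CommRingCat.of (AlgebraicClosure (V.left.residueField v))) ⟶ P₁.left, z ≫ p₁ = y₁ → GeomFib f η := fun z hz =>
    ⟨z ≫ pullback.snd V₁.hom f,
      (Category.assoc _ _ _).trans ((congrArg (z ≫ ·) pullback.condition.symm).trans
        ((Category.assoc _ _ _).symm.trans
          ((congrArg (· ≫ (V₁.hom : V₁.left ⟶ S)) hz).trans hy₁)))⟩
  obtain ⟨V₂, y₂, hy₂, h, hh, -⟩ := split_finite p₁ y₁ (𝟙 _) g
    (fun z hz => (show Over.mk _ ⟶ (Scheme.Etale.forget X).obj _ from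
      w (idx z (hz.trans (Category.id_comp _)))).left ≫
        Sigma.ι (fun ξ => (W ξ).left) (idx z (hz.trans (Category.id_comp _))))
    (fun z hz => by
      refine (Category.assoc _ _ _).trans ((congrArg (_ ≫ ·) (Sigma.ι_desc (fun ξ => (k ξ).left) _)).trans ?_)
      refine (congrArg (fun q => q.left) (hw (idx z (hz.trans (Category.id_comp _))))).trans ?_
      exact pullback.hom_ext ((pullback.lift_fst _ _ _).trans (hz.trans (Category.id_comp _)).symm)
        (pullback.lift_snd _ _ _))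
  let V₃ : S.Etale := Scheme.Etale.mk ((V₂.hom : V₂.left ⟶ V₁.left) ≫ (V₁.hom : V₁.left ⟶ S))
  let e₁ : V₃ ⟶ V₁ := MorphismProperty.Over.homMk V₂.hom rfl
  let B₃ := (EtCoh.bc f).obj V₃
  let m : B₃.left ⟶ P₁.left := ((EtCoh.bc f).map e₁).left
  have hm1 : m ≫ p₁ = pullback.fst V₃.hom f ≫ V₂.hom := pullback.lift_fst _ _ _
  let κ : B₃.left ⟶ pullback (V₂.hom : V₂.left ⟶ V₁.left) p₁ :=
    pullback.lift (pullback.fst V₃.hom f) m hm1.symm
  let h₃ : B₃.left ⟶ ∐ fun ξ => (W ξ).left := κ ≫ h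
  have hh₃ : h₃ ≫ g = m := by
    rw [Category.assoc, hh]
    exact pullback.lift_snd _ _ _
  obtain ⟨O, hd, hc, hl⟩ := exists_pieces h₃
  choose l hl using hl
  let q : B₃.left ⟶ V₃.left := pullback.fst V₃.hom f
  have : IsFinite q := MorphismProperty.pullback_fst _ _ ‹IsFinite f›
  have hO : ∀ ξ, IsFinite ((O ξ).ι ≫ q) := fun ξ => by
    have hcl : IsClosed (Set.range (O ξ).ι) := by
      rw [Scheme.Opens.range_ι]
      have e : (O ξ : Set B₃.left) = (⋃ ζ, ⋃ (_ : ζ ≠ ξ), (O ζ : Set B₃.left))ᶜ := by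
        ext z
        simp only [Set.mem_compl_iff, Set.mem_iUnion, not_exists]
        refine ⟨fun hz ζ hne hz' => (hd ζ ξ hne).le_bot (show z ∈ O ζ ⊓ O ξ from ⟨hz', hz⟩), fun hz => ?_⟩
        obtain ⟨ζ, hζ⟩ := hc z
        by_cases hne : ζ = ξ
        · exact hne ▸ hζ
        · exact absurd hζ (hz ζ hne)
      rw [e]
      exact (isOpen_iUnion fun ζ => isOpen_iUnion fun _ => (O ζ).2).isClosed_compl
    have : IsClosedImmersion (O ξ).ι := .of_isPreimmersion _ hcl
    infer_instance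
  let a : B₃.left ⟶ X := pullback.snd V₃.hom f
  have hsq : IsPullback a q f (V₃.hom : V₃.left ⟶ S) := (IsPullback.of_hasPullback V₃.hom f).flip
  have hwt := FlatWt.isWeighting_wt f
  obtain ⟨v₂, hv₂⟩ : ∃ v₂ : V₂.left, v₂ = y₂ default := ⟨_, rfl⟩
  choose N hN c hcst using fun ξ => Apply.exists_nbhd_geomSum' hwt hsq (O ξ) (hO ξ) v₂
  let N₀ : V₃.left.Opens :=
    ⟨⋂ ξ, (N ξ : Set V₃.left), isOpen_iInter_of_finite fun ξ => (N ξ).2⟩
  let e₂ : openObj N₀ ⟶ V₃ := openIncl N₀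
  refine ⟨openObj N₀, e₂ ≫ e₁ ≫ e₀.1, ⟨v₂, Set.mem_iInter.2 hN⟩, ?_,
    ∑ ξ, c ξ • F.obj.map (e₂ ≫ e₁).op (a₁ ξ), fun Ω' _ _ η' t => ?_⟩
  · show e₀.1.left (e₁.left v₂) = v
    rw [hv₂]
    show e₀.1.left (V₂.hom (y₂ default)) = v
    rw [← Scheme.Hom.comp_apply, ← Scheme.Hom.comp_apply, reassoc_of% hy₂,
      show y₁ ≫ e₀.1.left = y₀ from congrArg (fun q => q.left) e₀.2]
    refine Eq.trans ?_ hy₀
    exact congrArg (fun o => y₀ o)
      (Subsingleton.elim (α := Spec (CommRingCat.of (AlgebraicClosure (V.left.residueField v)))) _ _)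
  let t₃ : (Scheme.pointSmallEtale η').fiber.obj V₃ := (Scheme.pointSmallEtale η').fiber.map e₂ t
  let z : Spec (CommRingCat.of Ω') ⟶ V₃.left :=
    (show Over.mk η' ⟶ (Scheme.Etale.forget S).obj V₃ from t₃).left
  have hz : z ≫ (V₃.hom : V₃.left ⟶ S) = η' :=
    Over.w (show Over.mk η' ⟶ (Scheme.Etale.forget S).obj V₃ from t₃)
  have hzN : ∀ ξ, Wt.GeomPts.pt z ∈ N ξ := fun ξ => by
    have h1 : Wt.GeomPts.pt z = PunctLib.pt t₃ :=
      congrArg (fun o => z o) (Subsingleton.elim (α := Spec (CommRingCat.of Ω')) _ _)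
    rw [h1]
    exact Set.mem_iInter.1 (pt_mem_open t) ξ
  have := Fintype.ofFinite (GeomFib f η')
  let sel : GeomFib f η' → GeomFib f η := fun ζ => (hc (PunctLib.pt (bcPt f ζ.1 ζ.2 V₃ t₃))).choose
  have hsel : ∀ ζ, PunctLib.pt (bcPt f ζ.1 ζ.2 V₃ t₃) ∈ O (sel ζ) := fun ζ =>
    (hc (PunctLib.pt (bcPt f ζ.1 ζ.2 V₃ t₃))).choose_spec
  have hcomp : ∀ ζ : GeomFib f η', compAt f ζ F
      (germ η' _ (openObj N₀) t (((EtCoh.pull f ⋙ EtCoh.push f).obj F).obj.map (e₂ ≫ e₁ ≫ e₀.1).op s)) =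
      germ η' F (openObj N₀) t (F.obj.map (e₂ ≫ e₁).op (a₁ (sel ζ))) := fun ζ => by
    have hin : Set.range (show Over.mk ζ.1 ⟶ (Scheme.Etale.forget X).obj B₃ from
        bcPt f ζ.1 ζ.2 V₃ t₃).left ⊆ Set.range (O (sel ζ)).ι := by
      rintro _ ⟨o, rfl⟩
      rw [Subsingleton.elim (α := Spec (CommRingCat.of Ω')) o default]
      erw [Scheme.Opens.range_ι]
      exact hsel ζ
    obtain ⟨zO, hzO⟩ := exists_lift_open (O (sel ζ)) (bcPt f ζ.1 ζ.2 V₃ t₃) (hsel ζ)
    let kk : openObj (O (sel ζ)) ⟶ W (sel ζ) := MorphismProperty.Over.homMk (l (sel ζ)) (by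
      rw [← MorphismProperty.Over.w (k (sel ζ))]
      refine (Category.assoc _ _ _).symm.trans ?_
      have e3 : l (sel ζ) ≫ (k (sel ζ)).left = (O (sel ζ)).ι ≫ m := by
        rw [← hh₃, ← Category.assoc, ← hl, Category.assoc, Sigma.ι_desc]
      refine (congrArg (· ≫ P₁.hom) e3).trans ((Category.assoc _ _ _).trans ?_)
      exact congrArg ((O (sel ζ)).ι ≫ ·) (MorphismProperty.Over.w ((EtCoh.bc f).map e₁)))
    have hkk : kk ≫ k (sel ζ) = openIncl (O (sel ζ)) ≫ (EtCoh.bc f).map e₁ := by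
      refine MorphismProperty.Over.Hom.ext ?_
      show l (sel ζ) ≫ (k (sel ζ)).left = (O (sel ζ)).ι ≫ m
      rw [← hh₃, ← Category.assoc, ← hl, Category.assoc, Sigma.ι_desc]
    have heq : G.obj.map (openIncl (O (sel ζ)) ≫ (EtCoh.bc f).map e₁).op s₁ =
        G.obj.map (openIncl (O (sel ζ)) ≫ (EtCoh.bc f).map e₁).op (u₁ (sel ζ)) := by
      rw [← hkk, op_comp, Functor.map_comp]
      exact congrArg (G.obj.map kk.op) (hk (sel ζ))
    refine (compAt_germ f ζ F _ t _).trans ?_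
    refine Eq.trans ?_ (pullAt_germ_unit f ζ F (openObj N₀) t _)
    refine congrArg ((pullAt f ζ).hom.app F) ?_
    have e5 : (((EtCoh.pullPushAdj f).unit.app F).hom.app (op (openObj N₀))
        (F.obj.map (e₂ ≫ e₁).op (a₁ (sel ζ)))) =
        G.obj.map ((EtCoh.bc f).map (e₂ ≫ e₁)).op (u₁ (sel ζ)) :=
      NatTrans.naturality_apply ((EtCoh.pullPushAdj f).unit.app F).hom (e₂ ≫ e₁).op (a₁ (sel ζ))
    have e6 : ((EtCoh.pull f ⋙ EtCoh.push f).obj F).obj.map (e₂ ≫ e₁ ≫ e₀.1).op s =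
        G.obj.map ((EtCoh.bc f).map (e₂ ≫ e₁)).op s₁ := by
      show G.obj.map ((EtCoh.bc f).map (e₂ ≫ e₁ ≫ e₀.1)).op s =
        G.obj.map ((EtCoh.bc f).map (e₂ ≫ e₁)).op (G.obj.map ((EtCoh.bc f).map e₀.1).op s)
      rw [← ConcreteCategory.comp_apply, ← Functor.map_comp, ← op_comp, ← Functor.map_comp,
        Category.assoc]
    rw [e5, e6]
    have e7 : (Scheme.pointSmallEtale ζ.1).fiber.map ((EtCoh.bc f).map (e₂ ≫ e₁))
        (bcPt f ζ.1 ζ.2 (openObj N₀) t) = (Scheme.pointSmallEtale ζ.1).fiber.map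
          (openIncl (O (sel ζ)) ≫ (EtCoh.bc f).map e₁) zO := by
      rw [Functor.map_comp, Functor.map_comp, Functor.map_comp, ConcreteCategory.comp_apply,
        ConcreteCategory.comp_apply, hzO]
      refine congrArg ((Scheme.pointSmallEtale ζ.1).fiber.map ((EtCoh.bc f).map e₁)) ?_
      refine Over.OverMorphism.ext (pullback.hom_ext ?_ ?_)
      · refine (Category.assoc _ _ _).trans ((congrArg (_ ≫ ·) (pullback.lift_fst _ _ _)).trans ?_)
        refine (Category.assoc _ _ _).symm.trans ((congrArg (· ≫ e₂.left) (pullback.lift_fst _ _ _)).trans ?_)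
        exact (pullback.lift_fst _ _ _).symm
      · refine (Category.assoc _ _ _).trans ((congrArg (_ ≫ ·) (pullback.lift_snd _ _ _)).trans ?_)
        exact (pullback.lift_snd _ _ _).trans (pullback.lift_snd _ _ _).symm
    refine (germ_res ζ.1 G ((EtCoh.bc f).map (e₂ ≫ e₁)) _ s₁).trans ?_
    refine Eq.trans ?_ (germ_res ζ.1 G ((EtCoh.bc f).map (e₂ ≫ e₁)) _ (u₁ (sel ζ))).symm
    rw [e7]
    refine (germ_res ζ.1 G _ zO s₁).symm.trans (Eq.trans ?_ (germ_res ζ.1 G _ zO (u₁ (sel ζ))))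
    exact congrArg (germ ζ.1 G _ zO) heq
  rw [traceAt_apply, finsum_eq_sum_of_fintype]
  simp only [hcomp]
  rw [map_sum]
  simp only [map_zsmul]
  rw [← Finset.sum_fiberwise (s := Finset.univ) sel]
  refine Finset.sum_congr rfl fun ξ _ => ?_
  rw [Finset.sum_congr rfl fun ζ hζ => by rw [(Finset.mem_filter.1 hζ).2], ← Finset.sum_smul]
  congr 1
  rw [← hcst ξ Ω' z (hzN ξ)]
  unfold Master.geomSum
  let E : GeomFib q z ≃ GeomFib f η' :=
    (baseChangeEquiv f hsq z).trans (Equiv.cast (congrArg (fun o => GeomFib f o) hz))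
  have hE : ∀ p : GeomFib q z, (E p).1 = p.1 ≫ a := fun p => by
    have : ∀ (o : Spec (CommRingCat.of Ω') ⟶ S) (ho : z ≫ (V₃.hom : V₃.left ⟶ S) = o)
        (x : GeomFib f (z ≫ (V₃.hom : V₃.left ⟶ S))),
        (Equiv.cast (congrArg (fun o => GeomFib f o) ho) x).1 = x.1 := by
      rintro _ rfl x; rfl
    exact this _ hz _
  have hbc : ∀ p : GeomFib q z, PunctLib.pt (bcPt f (E p).1 (E p).2 V₃ t₃) = Wt.GeomPts.pt p.1 := fun p => by
    have : (show Over.mk (E p).1 ⟶ (Scheme.Etale.forget X).obj B₃ from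
        bcPt f (E p).1 (E p).2 V₃ t₃).left = p.1 :=
      pullback.hom_ext ((pullback.lift_fst _ _ _).trans p.2.symm)
        ((pullback.lift_snd _ _ _).trans (hE p))
    refine (congrArg (fun k : Spec (CommRingCat.of Ω') ⟶ B₃.left => k default) this).trans ?_
    exact congrArg (fun o => p.1 o) (Subsingleton.elim (α := Spec (CommRingCat.of Ω')) _ _)
  symm
  rw [← finsum_mem_coe_finset]
  refine finsum_mem_eq_of_bijOn E ⟨?_, E.injective.injOn, ?_⟩ fun p _ => ?_
  · intro p hp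
    simp only [Finset.coe_filter, Finset.mem_univ, true_and, Set.mem_setOf_eq]
    by_contra hne
    exact (hd _ _ hne).le_bot (show Wt.GeomPts.pt p.1 ∈ O (sel (E p)) ⊓ O ξ from
      ⟨hbc p ▸ hsel (E p), hp⟩)
  · intro ζ hζ
    simp only [Finset.coe_filter, Finset.mem_univ, true_and, Set.mem_setOf_eq] at hζ
    refine ⟨E.symm ζ, ?_, E.apply_symm_apply ζ⟩
    show Wt.GeomPts.pt (E.symm ζ).1 ∈ O ξ
    rw [← hbc, E.apply_symm_apply, ← hζ]
    exact hsel ζ
  · refine congrArg (FlatWt.wt f) ?_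
    rw [hE p]
    rfl

theorem exists_tr [Flat f] [LocallyOfFinitePresentation f] (F : EtCoh.Ab S) :
    ∃ T : (EtCoh.pull f ⋙ EtCoh.push f).obj F ⟶ F,
      ∀ y : S, (EtCoh.stalk (acPoint S y)).map T = traceAt f F := by
  let T : (EtCoh.pull f ⋙ EtCoh.push f).obj F ⟶ God F :=
    Pi.lift fun y => toSky (acPoint S y) (traceAt f F)
  have h0 : T ≫ cokernel.π (toGod F) = 0 := by
    refine hom_ext_acPoint _ _ fun y => ?_
    rw [Functor.map_zero]
    ext p
    show (EtCoh.stalk (acPoint S y)).map (T ≫ cokernel.π (toGod F)) p = 0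
    obtain ⟨V, t, s, rfl⟩ := exists_germ_eq _ _ p
    obtain ⟨V', e, v', hv', a, ha⟩ := exists_local f F s (PunctLib.pt t)
    rw [germ_naturality]
    refine (germ_eq_zero_iff _ t _).2 ⟨V', e, v', hv', ?_⟩
    rw [← NatTrans.naturality_apply]
    have h1 : T.hom.app (op V') (((EtCoh.pull f ⋙ EtCoh.push f).obj F).obj.map e.op s) =
        (toGod F).hom.app (op V') a := god_ext _ _ fun z => sky_ext _ _ _ fun w => by
      rw [god_comp_apply, show toGod F = Pi.lift fun y => toSky (acPoint S y) (𝟙 _) from rfl,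
        god_comp_apply]
      exact ha _ (acPoint S z) w
    refine (congrArg ((cokernel.π (toGod F)).hom.app (op V')) h1).trans ?_
    exact congrArg (fun k : F ⟶ cokernel (toGod F) => k.hom.app (op V') a) (cokernel.condition (toGod F))
  refine ⟨Abelian.monoLift (toGod F) T h0, fun y => ?_⟩
  have h1 := Abelian.monoLift_comp (toGod F) T h0
  have h2 := congrArg (fun k => (EtCoh.stalk (acPoint S y)).map (k ≫ Pi.π _ y) ≫ skyCounit _ _) h1
  simp only [toGod, T, Category.assoc, Pi.lift_π, Functor.map_comp, map_toSky_counit,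
    Category.comp_id] at h2
  exact h2

/-- The trace. -/
def tr [Flat f] [LocallyOfFinitePresentation f] : EtCoh.pull f ⋙ EtCoh.push f ⟶ 𝟭 (EtCoh.Ab S) where
  app F := (exists_tr f F).choose
  naturality F G a := hom_ext_acPoint _ _ fun y => by
    rw [Functor.map_comp, Functor.map_comp, (exists_tr f F).choose_spec y,
      (exists_tr f G).choose_spec y]
    exact traceAt_naturality f a

theorem unit_tr [Flat f] [LocallyOfFinitePresentation f] (n : ℕ) (hn : ∀ s : S, f.finrank s = n)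
    (F : EtCoh.Ab S) : (EtCoh.pullPushAdj f).unit.app F ≫ (tr f).app F = n • 𝟙 F :=
  hom_ext_acPoint _ _ fun y => by
    rw [Functor.map_comp, show (tr f).app F = (exists_tr f F).choose from rfl,
      (exists_tr f F).choose_spec y]
    refine (unit_traceAt f F).trans ?_
    rw [hn, natCast_zsmul, Functor.map_nsmul]
    exact congrArg (n • ·) ((EtCoh.stalk (acPoint S y)).map_id F).symm

end

end Groth.Agent.FlatTrace
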