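import Groth.Agent.FlatTrace.Weight
import Groth.Agent.EtaleSite.PullPentagon
import Groth.Agent.EtaleSite.FiniteBC

/-!
# Composition isomorphisms of inverse images on germs of pulled back sections
-/

set_option autoImplicit false

universe u

open CategoryTheory CategoryTheory.Limits AlgebraicGeometry Opposite TopologicalSpace

noncomputable section

namespace Groth.Agent.FlatTrace

open EtaleSite EtaleSite.HpullFunctor

variable {A B C : Scheme.{u}}

/-- The section pulled back by the unit. -/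
abbrev unitSec (a : A ⟶ B) {G : EtCoh.Ab B} {V : B.Etale} (s : G.obj.obj (op V)) :
    ((EtCoh.pull a).obj G).obj.obj (op ((EtCoh.bc a).obj V)) :=
  ((EtCoh.pullPushAdj a).unit.app G).hom.app (op V) s

set_option backward.isDefEq.respectTransparency.types false in
theorem pullComp_unitSec (a : A ⟶ B) (b : B ⟶ C) (G : EtCoh.Ab C) (V : C.Etale)
    (s : G.obj.obj (op V)) :
    ((EtCore.pullComp a b).hom.app G).hom.app (op ((EtCoh.bc (a ≫ b)).obj V)) (unitSec (a ≫ b) s) =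
      ((EtCoh.pull a).obj ((EtCoh.pull b).obj G)).obj.map (bcComp a b V).op
        (unitSec a (unitSec b s)) := by
  have e := pullComp_homEquiv a b G (F := (EtCoh.pull a).obj ((EtCoh.pull b).obj G)) (𝟙 _)
  simp only [Adjunction.homEquiv_unit, CategoryTheory.Functor.map_id, Category.comp_id,
    CategoryTheory.Functor.map_comp] at e
  exact congrArg (fun k => k.hom.app (op V) s) e

theorem bcComp_point (a : A ⟶ B) (b : B ⟶ C) {Ω : Type u} [Field Ω] [IsSepClosed Ω]
    {η : Spec (CommRingCat.of Ω) ⟶ C} (ξ : Spec (CommRingCat.of Ω) ⟶ A)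
    (h : ξ ≫ a ≫ b = η) (V : C.Etale) (t : (Scheme.pointSmallEtale η).fiber.obj V) :
    (Scheme.pointSmallEtale ξ).fiber.map (bcComp a b V) (bcPt (a ≫ b) ξ h V t) =
      bcPt a ξ rfl ((EtCoh.bc b).obj V) (bcPt b (ξ ≫ a) ((Category.assoc _ _ _).trans h) V t) := by
  refine Over.OverMorphism.ext ?_
  have h2 : (pullback.lift (show Over.mk η ⟶ (Scheme.Etale.forget C).obj V from t).left ξ
      ((Over.w (show Over.mk η ⟶ (Scheme.Etale.forget C).obj V from t)).trans h.symm) ≫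
        (bcComp a b V).left) ≫ pullback.snd _ _ = ξ :=
    (Category.assoc _ _ _).trans ((congrArg (_ ≫ ·) (bcComp_snd a b V)).trans (pullback.lift_snd _ _ _))
  refine pullback.hom_ext ?_ (h2.trans (pullback.lift_snd _ _ _).symm)
  refine Eq.trans ?_ (pullback.lift_fst _ _ _).symm
  refine pullback.hom_ext ?_ ?_
  · refine Eq.trans ?_ (pullback.lift_fst _ _ _).symm
    refine (Category.assoc _ _ _).trans ((Category.assoc _ _ _).trans ?_)
    exact (congrArg (_ ≫ ·) (bcComp_fst a b V)).trans (pullback.lift_fst _ _ _)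
  · refine Eq.trans ?_ (pullback.lift_snd _ _ _).symm
    refine (Category.assoc _ _ _).trans ((Category.assoc _ _ _).trans ?_)
    refine (congrArg (_ ≫ ·) (bcComp_fst_snd a b V)).trans ?_
    exact (Category.assoc _ _ _).symm.trans (congrArg (· ≫ a) (pullback.lift_snd _ _ _))

theorem germ_pullComp (a : A ⟶ B) (b : B ⟶ C) {Ω : Type u} [Field Ω] [IsSepClosed Ω]
    {η : Spec (CommRingCat.of Ω) ⟶ C} (ξ : Spec (CommRingCat.of Ω) ⟶ A)
    (h : ξ ≫ a ≫ b = η) (G : EtCoh.Ab C) (V : C.Etale) (t : (Scheme.pointSmallEtale η).fiber.obj V)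
    (s : G.obj.obj (op V)) :
    (EtCoh.stalk ξ).map ((EtCore.pullComp a b).hom.app G)
      (germ ξ _ _ (bcPt (a ≫ b) ξ h V t) (unitSec (a ≫ b) s)) =
    germ ξ _ _ (bcPt a ξ rfl ((EtCoh.bc b).obj V) (bcPt b (ξ ≫ a) ((Category.assoc _ _ _).trans h) V t))
      (unitSec a (unitSec b s)) := by
  rw [← bcComp_point a b ξ h V t]
  refine (germ_naturality ξ ((EtCore.pullComp a b).hom.app G) _ _ _).trans ?_
  refine (congrArg (germ ξ _ _ _) (pullComp_unitSec a b G V s)).trans ?_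
  exact germ_res ξ _ (bcComp a b V) _ _

theorem germ_pullComp_inv (a : A ⟶ B) (b : B ⟶ C) {Ω : Type u} [Field Ω] [IsSepClosed Ω]
    {η : Spec (CommRingCat.of Ω) ⟶ C} (ξ : Spec (CommRingCat.of Ω) ⟶ A)
    (h : ξ ≫ a ≫ b = η) (G : EtCoh.Ab C) (V : C.Etale) (t : (Scheme.pointSmallEtale η).fiber.obj V)
    (s : G.obj.obj (op V)) :
    (EtCoh.stalk ξ).map ((EtCore.pullComp a b).inv.app G)
      (germ ξ _ _ (bcPt a ξ rfl ((EtCoh.bc b).obj V) (bcPt b (ξ ≫ a) ((Category.assoc _ _ _).trans h) V t))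
        (unitSec a (unitSec b s))) =
      germ ξ _ _ (bcPt (a ≫ b) ξ h V t) (unitSec (a ≫ b) s) := by
  refine (congrArg ((EtCoh.stalk ξ).map ((EtCore.pullComp a b).inv.app G))
    (germ_pullComp a b ξ h G V t s).symm).trans ?_
  refine (ConcreteCategory.congr_hom (((EtCoh.stalk ξ).map_comp _ _).symm.trans
    (congrArg _ ((EtCore.pullComp a b).hom_inv_id_app G))) _).trans ?_
  exact ConcreteCategory.congr_hom ((EtCoh.stalk ξ).map_id _) _

theorem germ_pullCongr {a a' : A ⟶ C} (e : a = a') {Ω : Type u} [Field Ω] [IsSepClosed Ω]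
    {η : Spec (CommRingCat.of Ω) ⟶ C} (ξ : Spec (CommRingCat.of Ω) ⟶ A) (h : ξ ≫ a = η)
    (h' : ξ ≫ a' = η) (G : EtCoh.Ab C) (V : C.Etale) (t : (Scheme.pointSmallEtale η).fiber.obj V)
    (s : G.obj.obj (op V)) :
    (EtCoh.stalk ξ).map ((EtCore.pullCongr e).hom.app G)
      (germ ξ _ _ (bcPt a ξ h V t) (unitSec a s)) = germ ξ _ _ (bcPt a' ξ h' V t) (unitSec a' s) := by
  subst e
  exact ConcreteCategory.congr_hom ((EtCoh.stalk ξ).map_id _) _

/-- The same point with a differently written base. -/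
theorem bcPt_congr (a : A ⟶ B) {Ω : Type u} [Field Ω] [IsSepClosed Ω]
    {η : Spec (CommRingCat.of Ω) ⟶ B} (ξ : Spec (CommRingCat.of Ω) ⟶ A) (h : ξ ≫ a = η)
    (V : B.Etale) (t : (Scheme.pointSmallEtale η).fiber.obj V)
    (t' : (Scheme.pointSmallEtale (ξ ≫ a)).fiber.obj V)
    (ht : (show Over.mk η ⟶ (Scheme.Etale.forget B).obj V from t).left =
      (show Over.mk (ξ ≫ a) ⟶ (Scheme.Etale.forget B).obj V from t').left) :
    bcPt a ξ h V t = bcPt a ξ rfl V t' := by
  subst h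
  rw [show t = t' from Over.OverMorphism.ext ht]

/-- The comparison of a double point with a double unit, through any intermediate point. -/
theorem germ_double (a : A ⟶ B) (b : B ⟶ C) {Ω : Type u} [Field Ω] [IsSepClosed Ω]
    {η : Spec (CommRingCat.of Ω) ⟶ C} {ζ : Spec (CommRingCat.of Ω) ⟶ B}
    (ξ : Spec (CommRingCat.of Ω) ⟶ A) (hξ : ξ ≫ a = ζ) (hζ : ζ ≫ b = η)
    (G : EtCoh.Ab C) (V : C.Etale) (t : (Scheme.pointSmallEtale η).fiber.obj V) (s : G.obj.obj (op V)) :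
    (EtCoh.stalk ξ).map ((EtCore.pullComp a b).hom.app G)
      (germ ξ _ _ (bcPt (a ≫ b) ξ ((Category.assoc _ _ _).symm.trans ((congrArg (· ≫ b) hξ).trans hζ)) V t)
        (unitSec (a ≫ b) s)) =
    germ ξ _ _ (bcPt a ξ hξ ((EtCoh.bc b).obj V) (bcPt b ζ hζ V t)) (unitSec a (unitSec b s)) := by
  subst hξ
  exact germ_pullComp a b ξ _ G V t s

theorem germ_double_inv (a : A ⟶ B) (b : B ⟶ C) {Ω : Type u} [Field Ω] [IsSepClosed Ω]
    {η : Spec (CommRingCat.of Ω) ⟶ C} {ζ : Spec (CommRingCat.of Ω) ⟶ B}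
    (ξ : Spec (CommRingCat.of Ω) ⟶ A) (hξ : ξ ≫ a = ζ) (hζ : ζ ≫ b = η)
    (G : EtCoh.Ab C) (V : C.Etale) (t : (Scheme.pointSmallEtale η).fiber.obj V) (s : G.obj.obj (op V)) :
    (EtCoh.stalk ξ).map ((EtCore.pullComp a b).inv.app G)
      (germ ξ _ _ (bcPt a ξ hξ ((EtCoh.bc b).obj V) (bcPt b ζ hζ V t)) (unitSec a (unitSec b s))) =
    germ ξ _ _ (bcPt (a ≫ b) ξ ((Category.assoc _ _ _).symm.trans ((congrArg (· ≫ b) hξ).trans hζ)) V t)
        (unitSec (a ≫ b) s) := by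
  subst hξ
  exact germ_pullComp_inv a b ξ _ G V t s

end Groth.Agent.FlatTrace
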