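import Groth.Agent.FlatTrace.Var3

/-!
# Uniqueness of the trace

A trace is determined on the spectrum of an algebraically closed field, where the source is a
finite discrete scheme and each of its points is handled by multiplicativity on the rank.
-/

set_option autoImplicit false

universe u

open CategoryTheory CategoryTheory.Limits AlgebraicGeometry Opposite TopologicalSpace

noncomputable section

namespace Groth.Agent.FlatTrace

open EtaleSite EtaleSite.HpullFunctor PunctLib Wt Wt.GeomPts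

/-- A family of maps `f_* f^* ⟶ id`. -/
abbrev Family : Type (u + 2) :=
  ∀ ⦃X S : Scheme.{u}⦄ (f : X ⟶ S) [IsFinite f] [Flat f] [LocallyOfFinitePresentation f],
    EtCoh.pull f ⋙ EtCoh.push f ⟶ 𝟭 (EtCoh.Ab S)

variable (Tr : Family.{u})
  (h2 : ∀ ⦃X S X' S' : Scheme.{u}⦄ (f : X ⟶ S) (g : S' ⟶ S) (f' : X' ⟶ S') (g' : X' ⟶ X)
    (hc : IsPullback g' f' f g) [IsFinite f] [Flat f] [LocallyOfFinitePresentation f]
    [IsFinite f'] [Flat f'] [LocallyOfFinitePresentation f'] (F : EtCoh.Ab S),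
    EtCoh.baseChange0 f g f' g' hc.w ((EtCoh.pull f).obj F) ≫
      (EtCoh.push f').map ((EtCore.pullComp g' f).inv.app F ≫ (EtCore.pullCongr hc.w).hom.app F ≫
        (EtCore.pullComp f' g).hom.app F) ≫ (Tr f').app ((EtCoh.pull g).obj F) =
      (EtCoh.pull g).map ((Tr f).app F))
  (h3 : ∀ ⦃X Y S : Scheme.{u}⦄ (h : X ⟶ Y) (g : Y ⟶ S)
    [IsFinite h] [Flat h] [LocallyOfFinitePresentation h]
    [IsFinite g] [Flat g] [LocallyOfFinitePresentation g]
    [IsFinite (h ≫ g)] [Flat (h ≫ g)] [LocallyOfFinitePresentation (h ≫ g)] (F : EtCoh.Ab S),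
    (Tr (h ≫ g)).app F =
      (EtCoh.push (h ≫ g)).map ((EtCore.pullComp h g).hom.app F) ≫
        (EtCoh.pushComp g h).inv.app ((EtCoh.pull h).obj ((EtCoh.pull g).obj F)) ≫
        (EtCoh.push g).map ((Tr h).app ((EtCoh.pull g).obj F)) ≫ (Tr g).app F)
  (h4 : ∀ ⦃X S : Scheme.{u}⦄ (f : X ⟶ S) [IsFinite f] [Flat f] [LocallyOfFinitePresentation f] (n : ℕ)
    (_hn : ∀ s : S, f.finrank s = n) (F : EtCoh.Ab S),
    (EtCoh.pullPushAdj f).unit.app F ≫ (Tr f).app F = n • 𝟙 F)

section

variable {Ω : Type u} [Field Ω] [IsAlgClosed Ω]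

theorem hom_ext_base {F G : EtCoh.Ab (Spec (CommRingCat.of Ω))} (a b : F ⟶ G)
    (h : (EtCoh.stalk (𝟙 (Spec (CommRingCat.of Ω)))).map a =
      (EtCoh.stalk (𝟙 (Spec (CommRingCat.of Ω)))).map b) : a = b := by
  refine hom_ext_acPoint _ _ fun y => ?_
  have key : ∀ η : Spec (CommRingCat.of (AlgebraicClosure ((Spec (CommRingCat.of Ω)).residueField y))) ⟶
      Spec (CommRingCat.of Ω), η = acPoint _ y ≫ 𝟙 _ →
      (EtCoh.stalk η).map a = (EtCoh.stalk η).map b := by
    rintro _ rfl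
    refine (cancel_epi ((stalkExtIso (acPoint _ y) (𝟙 (Spec (CommRingCat.of Ω)))).hom.app F)).1 ?_
    rw [← NatTrans.naturality, ← NatTrans.naturality, h]
  exact key _ (Category.comp_id _).symm

include h4 in
theorem eq_tr_of_subsingleton {X : Scheme.{u}} (f : X ⟶ Spec (CommRingCat.of Ω))
    [IsFinite f] [Flat f] [LocallyOfFinitePresentation f]
    [Subsingleton (GeomFib f (𝟙 (Spec (CommRingCat.of Ω))))]
    (F : EtCoh.Ab (Spec (CommRingCat.of Ω))) : (Tr f).app F = (tr f).app F := by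
  refine hom_ext_base _ _ ?_
  let η := 𝟙 (Spec (CommRingCat.of Ω))
  ext p
  have hn : ∀ s : Spec (CommRingCat.of Ω), f.finrank s = f.finrank default := fun s =>
    congrArg f.finrank (Subsingleton.elim s default)
  have hu : ∃ q, (EtCoh.stalk η).map ((EtCoh.pullPushAdj f).unit.app F) q = p := by
    by_cases hne : Nonempty (GeomFib f η)
    · obtain ⟨ξ⟩ := hne
      refine ⟨compAt f ξ F p, sub_eq_zero.1 (eq_zero_of_cmpAt f η _ _ fun ξ' hξ' => ?_)⟩
      obtain rfl : ξ' = ξ.1 := congrArg Subtype.val (Subsingleton.elim (α := GeomFib f η) ⟨ξ', hξ'⟩ ξ)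
      refine (ConcreteCategory.bijective_of_isIso ((pullAt f ξ).hom.app F)).1 ?_
      refine Eq.trans ?_ (map_zero _).symm
      show compAt f ξ F _ = 0
      rw [map_sub, sub_eq_zero]
      exact ConcreteCategory.congr_hom (unit_compAt f ξ F) (compAt f ξ F p)
    · refine ⟨0, ?_⟩
      rw [map_zero]
      exact (eq_zero_of_cmpAt f η _ _ fun ξ hξ => absurd ⟨⟨ξ, hξ⟩⟩ hne).symm
  obtain ⟨q, rfl⟩ := hu
  have e := (h4 f _ hn F).trans (unit_tr f _ hn F).symm
  exact ((ConcreteCategory.congr_hom ((EtCoh.stalk η).map_comp _ _) q).symm.trans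
    (congrArg (fun k => (EtCoh.stalk η).map k q) e)).trans
      (ConcreteCategory.congr_hom ((EtCoh.stalk η).map_comp _ _) q)

/-- A finite scheme over a field with one point has at most one section. -/
theorem subsingleton_sections {X : Scheme.{u}} [IsAffine X] [Subsingleton X]
    (f : X ⟶ Spec (CommRingCat.of Ω)) : Subsingleton (GeomFib f (𝟙 (Spec (CommRingCat.of Ω)))) := by
  refine ⟨fun a b => Subtype.ext ?_⟩
  obtain ⟨c, hc⟩ := Spec.map_surjective (X.isoSpec.inv ≫ f)
  obtain ⟨φ, hφ⟩ := Spec.map_surjective (a.1 ≫ X.isoSpec.hom)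
  obtain ⟨ψ, hψ⟩ := Spec.map_surjective (b.1 ≫ X.isoSpec.hom)
  refine (cancel_mono X.isoSpec.hom).1 (hφ.symm.trans ((congrArg Spec.map ?_).trans hψ))
  have hφc : c ≫ φ = 𝟙 _ := Spec.map_injective (by
    rw [Spec.map_comp, hc, hφ, Category.assoc, X.isoSpec.hom_inv_id_assoc, a.2, Spec.map_id])
  have hψc : c ≫ ψ = 𝟙 _ := Spec.map_injective (by
    rw [Spec.map_comp, hc, hψ, Category.assoc, X.isoSpec.hom_inv_id_assoc, b.2, Spec.map_id])
  have : Subsingleton (Spec Γ(X, ⊤)) := X.isoSpec.hom.homeomorph.symm.injective.subsingleton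
  have hker : RingHom.ker φ.hom = RingHom.ker ψ.hom := congrArg PrimeSpectrum.asIdeal
    (Subsingleton.elim (α := Spec Γ(X, ⊤)) ⟨_, RingHom.ker_isPrime φ.hom⟩ ⟨_, RingHom.ker_isPrime ψ.hom⟩)
  ext r
  have h : r - c (φ r) ∈ RingHom.ker φ.hom := by
    rw [RingHom.mem_ker, map_sub, sub_eq_zero]
    exact (ConcreteCategory.congr_hom hφc (φ r)).symm
  rw [hker, RingHom.mem_ker, map_sub, sub_eq_zero] at h
  exact ((ConcreteCategory.congr_hom hψc (φ r)).symm.trans h.symm)

end

include h2 in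
/-- Two traces agree once they agree over all algebraically closed points. -/
theorem eq_tr_of_points {X S : Scheme.{u}} (f : X ⟶ S) [IsFinite f] [Flat f]
    [LocallyOfFinitePresentation f] (F : EtCoh.Ab S)
    (H : ∀ (Ω : Type u) [Field Ω] [IsAlgClosed Ω] (η : Spec (CommRingCat.of Ω) ⟶ S)
      [IsFinite (pullback.snd f η)] [Flat (pullback.snd f η)]
      [LocallyOfFinitePresentation (pullback.snd f η)],
      (Tr (pullback.snd f η)).app ((EtCoh.pull η).obj F) =
        (tr (pullback.snd f η)).app ((EtCoh.pull η).obj F)) :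
    (Tr f).app F = (tr f).app F := by
  refine hom_ext_acPoint _ _ fun y => ?_
  let η := acPoint S y
  have : IsFinite (pullback.snd f η) := MorphismProperty.pullback_snd _ _ ‹IsFinite f›
  have : Flat (pullback.snd f η) := MorphismProperty.pullback_snd _ _ ‹Flat f›
  have : LocallyOfFinitePresentation (pullback.snd f η) :=
    MorphismProperty.pullback_snd _ _ ‹LocallyOfFinitePresentation f›
  have hc := IsPullback.of_hasPullback f η
  have e : (EtCoh.pull η).map ((Tr f).app F) = (EtCoh.pull η).map ((tr f).app F) := by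
    refine (h2 f η _ _ hc F).symm.trans (Eq.trans ?_ (tr_baseChange f η _ _ hc F))
    exact congrArg (fun k => _ ≫ _ ≫ k) (H _ η)
  have key : ∀ η' : Spec (CommRingCat.of (AlgebraicClosure (S.residueField y))) ⟶ S,
      η' = 𝟙 _ ≫ η → (EtCoh.stalk η').map ((Tr f).app F) = (EtCoh.stalk η').map ((tr f).app F) := by
    rintro _ rfl
    refine (cancel_epi ((stalkPullIso η (𝟙 _)).hom.app _)).1 ?_
    rw [← NatTrans.naturality, ← NatTrans.naturality]
    exact congrArg (fun k => (EtCoh.stalk (𝟙 _)).map k ≫ _) e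
  exact key _ (Category.id_comp _).symm

include h2 h4 in
theorem eq_tr_of_mono {U S : Scheme.{u}} (i : U ⟶ S) [Mono i] [IsFinite i] [Flat i]
    [LocallyOfFinitePresentation i] (F : EtCoh.Ab S) : (Tr i).app F = (tr i).app F := by
  refine eq_tr_of_points Tr h2 i F fun Ω _ _ η _ _ _ => ?_
  have : Subsingleton (GeomFib (pullback.snd i η) (𝟙 _)) :=
    ⟨fun a b => Subtype.ext ((cancel_mono (pullback.snd i η)).1 (a.2.trans b.2.symm))⟩
  exact eq_tr_of_subsingleton Tr h4 _ _

variable {Ω : Type u} [Field Ω] [IsAlgClosed Ω]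

include h2 h3 h4 in
theorem eq_tr_base {X : Scheme.{u}} (f : X ⟶ Spec (CommRingCat.of Ω))
    [IsFinite f] [Flat f] [LocallyOfFinitePresentation f]
    (F : EtCoh.Ab (Spec (CommRingCat.of Ω))) : (Tr f).app F = (tr f).app F := by
  classical
  let η := 𝟙 (Spec (CommRingCat.of Ω))
  have hfin : Finite X := by
    refine Set.finite_univ_iff.1 ((f.finite_preimage_singleton default).subset fun x _ => ?_)
    exact Subsingleton.elim _ _
  have : DiscreteTopology X := isDiscrete_univ_iff.1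
    ((f.isDiscrete_preimage_singleton default).mono fun x _ => Subsingleton.elim _ _)
  have := Fintype.ofFinite X
  let U : X → X.Opens := fun x => ⟨{x}, isOpen_discrete _⟩
  have hfi : ∀ x, IsFinite (U x).ι := fun x => by
    have : IsClosedImmersion (U x).ι := .of_isPreimmersion _
      (by rw [Scheme.Opens.range_ι]; exact isClosed_discrete _)
    infer_instance
  have hsub : ∀ x, Subsingleton (GeomFib ((U x).ι ≫ f) η) := fun x => by
    have : Subsingleton ↥(U x).toScheme := ⟨fun a b => Subtype.ext (a.2.trans b.2.symm)⟩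
    have : IsAffine (U x).toScheme := isAffine_of_isAffineHom ((U x).ι ≫ f)
    exact subsingleton_sections _
  let G := (EtCoh.pull f).obj F
  let A := (EtCoh.pull f ⋙ EtCoh.push f).obj F
  let D := (Tr f).app F - (tr f).app F
  have hD : ∀ x, (EtCoh.push f).map ((tr (U x).ι).app G) ≫ D = 0 := fun x => by
    have e := (h3 (U x).ι f F).symm.trans
      ((eq_tr_of_subsingleton Tr h4 ((U x).ι ≫ f) F).trans (tr_comp (U x).ι f F))
    rw [eq_tr_of_mono Tr h2 h4 (U x).ι G, cancel_epi, cancel_epi] at e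
    rw [Preadditive.comp_sub, sub_eq_zero]
    exact e
  refine sub_eq_zero.1 (hom_ext_base (F := A) D 0 ?_)
  rw [Functor.map_zero]
  ext p
  have hpiece : ∀ x : X, ∃ r : (EtCoh.stalk η).obj A, (EtCoh.stalk η).map D r = 0 ∧
      ∀ ξ : GeomFib f η, cmpAt f ξ.1 ξ.2 G r = if Wt.GeomPts.pt ξ.1 = x then cmpAt f ξ.1 ξ.2 G p else 0 := by
    intro x
    obtain ⟨q, hq⟩ := exists_cmpAt_eq f η ((EtCoh.pull (U x).ι ⋙ EtCoh.push (U x).ι).obj G) fun ξ =>
      if Wt.GeomPts.pt ξ.1 = x then
        (EtCoh.stalk ξ.1).map ((EtCoh.pullPushAdj (U x).ι).unit.app G) (cmpAt f ξ.1 ξ.2 G p) else 0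
    refine ⟨(EtCoh.stalk η).map ((EtCoh.push f).map ((tr (U x).ι).app G)) q, ?_, fun ξ => ?_⟩
    · refine (ConcreteCategory.congr_hom ((EtCoh.stalk η).map_comp _ D) q).symm.trans ?_
      refine (congrArg (fun k => (EtCoh.stalk η).map k q) (hD x)).trans ?_
      rw [Functor.map_zero]
      rfl
    · refine (cmpAt_naturality f ξ.1 ξ.2 ((tr (U x).ι).app G) q).trans ?_
      refine (congrArg ((EtCoh.stalk ξ.1).map ((tr (U x).ι).app G)) (hq ξ)).trans ?_
      by_cases hx : Wt.GeomPts.pt ξ.1 = x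
      · rw [if_pos hx, if_pos hx]
        refine (ConcreteCategory.congr_hom (stalk_tr (U x).ι G) _).trans ?_
        rw [traceAt_apply]
        let ζ : GeomFib (U x).ι ξ.1 := ⟨IsOpenImmersion.lift (U x).ι ξ.1 (by
          rintro _ ⟨o, rfl⟩
          rw [Scheme.Opens.range_ι]
          exact (congrArg ξ.1 (Subsingleton.elim (α := Spec (CommRingCat.of Ω)) o _)).trans hx),
          IsOpenImmersion.lift_fac _ _ _⟩
        rw [finsum_eq_single _ ζ fun b hb => absurd
          (Subtype.ext ((cancel_mono (U x).ι).1 (b.2.trans ζ.2.symm))) hb, wt_openImmersion, one_smul]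
        exact ConcreteCategory.congr_hom (unit_compAt (U x).ι ζ G) _
      · rw [if_neg hx, if_neg hx, map_zero]
  choose r hr hr' using hpiece
  have hp : p = ∑ x, r x := by
    refine sub_eq_zero.1 (eq_zero_of_cmpAt f η G _ fun ξ hξ => ?_)
    rw [map_sub, sub_eq_zero, map_sum]
    simp only [fun x => hr' x ⟨ξ, hξ⟩]
    rw [Finset.sum_ite_eq, if_pos (Finset.mem_univ _)]
  refine (congrArg ((EtCoh.stalk η).map D) hp).trans ?_
  rw [map_sum]
  exact Finset.sum_eq_zero fun x _ => hr x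

include h2 h3 h4 in
theorem eq_tr {X S : Scheme.{u}} (f : X ⟶ S) [IsFinite f] [Flat f] [LocallyOfFinitePresentation f] :
    Tr f = tr f := by
  ext F : 2
  exact eq_tr_of_points Tr h2 f F fun Ω _ _ η _ _ _ => eq_tr_base Tr h2 h3 h4 _ _

end Groth.Agent.FlatTrace
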