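import Groth.Agent.FlatTrace.Stalk

/-!
# The trace commutes with base change
-/

set_option autoImplicit false

universe u

open CategoryTheory CategoryTheory.Limits AlgebraicGeometry Opposite TopologicalSpace

noncomputable section

namespace Groth.Agent.FlatTrace

open EtaleSite EtaleSite.HpullFunctor PunctLib Wt Wt.GeomPts

theorem cmpAt_naturality {A B : Scheme.{u}} (f : A ⟶ B) {Ω : Type u} [Field Ω] [IsSepClosed Ω]
    {η : Spec (CommRingCat.of Ω) ⟶ B} (ξ : Spec (CommRingCat.of Ω) ⟶ A) (hξ : ξ ≫ f = η)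
    {F G : EtCoh.Ab A} (a : F ⟶ G) (p) :
    cmpAt f ξ hξ G ((EtCoh.stalk η).map ((EtCoh.push f).map a) p) =
      (EtCoh.stalk ξ).map a (cmpAt f ξ hξ F p) := by
  obtain ⟨V, t, s, rfl⟩ := exists_germ_eq η ((EtCoh.push f).obj F) p
  refine (congrArg (cmpAt f ξ hξ G) (germ_naturality η ((EtCoh.push f).map a) V t s)).trans ?_
  refine (cmpAt_germ f ξ hξ G V t _).trans ?_
  refine Eq.trans ?_ (congrArg ((EtCoh.stalk ξ).map a) (cmpAt_germ f ξ hξ F V t s)).symm
  exact (germ_naturality ξ a _ _ s).symm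

variable {X S X' S' : Scheme.{u}} (f : X ⟶ S) (g : S' ⟶ S) (f' : X' ⟶ S') (g' : X' ⟶ X)
  [IsFinite f] [Flat f] [LocallyOfFinitePresentation f]
  [IsFinite f'] [Flat f'] [LocallyOfFinitePresentation f']

variable {Ω : Type u} [Field Ω] [IsAlgClosed Ω] {η' : Spec (CommRingCat.of Ω) ⟶ S'}

omit [IsFinite f] [Flat f] [LocallyOfFinitePresentation f] [IsFinite f'] [Flat f']
  [LocallyOfFinitePresentation f'] in
theorem pullAt_bcPull (w : g' ≫ f = f' ≫ g) (F : EtCoh.Ab S) (ξ' : GeomFib f' η')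
    (ξ : GeomFib f (η' ≫ g)) (hξ : ξ'.1 ≫ g' = ξ.1)
    (z : (EtCoh.stalk (ξ'.1 ≫ g')).obj ((EtCoh.pull f).obj F))
    (z' : (EtCoh.stalk ξ.1).obj ((EtCoh.pull f).obj F)) (hz : HEq z z') :
    (pullAt f' ξ').hom.app ((EtCoh.pull g).obj F) ((EtCoh.stalk ξ'.1).map ((EtCore.pullComp g' f).inv.app F ≫ (EtCore.pullCongr w).hom.app F ≫
        (EtCore.pullComp f' g).hom.app F)
      ((stalkPullIso g' ξ'.1).inv.app ((EtCoh.pull f).obj F) z)) =
    (stalkPullIso g η').inv.app F ((pullAt f ξ).hom.app F z') := by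
  obtain ⟨ξv, hv⟩ := ξ
  dsimp only at hξ z'
  subst hξ
  obtain rfl := eq_of_heq hz
  let ξ : GeomFib f (η' ≫ g) := ⟨ξ'.1 ≫ g', hv⟩
  obtain ⟨V, t, s, hs⟩ := exists_germ_eq (η' ≫ g) F ((pullAt f ξ).hom.app F z)
  have hz : z = germ (ξ'.1 ≫ g') ((EtCoh.pull f).obj F) ((EtCoh.bc f).obj V)
      (bcPt f ξ.1 ξ.2 V t) (unitSec f s) :=
    (ConcreteCategory.bijective_of_isIso ((pullAt f ξ).hom.app F)).1
      (hs.symm.trans (pullAt_germ_unit f ξ F V t s).symm)
  have e1 : (stalkPullIso g' ξ'.1).inv.app ((EtCoh.pull f).obj F) z =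
      germ ξ'.1 _ _ (bcPt g' ξ'.1 rfl ((EtCoh.bc f).obj V) (bcPt f ξ.1 ξ.2 V t))
        (unitSec g' (unitSec f s)) :=
    (congrArg _ hz).trans (germ_stalkPullIso_inv g' ξ'.1 _ _ _ _)
  rw [e1]
  have w' : ξ'.1 ≫ f' ≫ g = η' ≫ g := (Category.assoc _ _ _).symm.trans (congrArg (· ≫ g) ξ'.2)
  refine (congrArg ((pullAt f' ξ').hom.app ((EtCoh.pull g).obj F)) (a₂ := germ ξ'.1 _ _
    (bcPt f' ξ'.1 ξ'.2 ((EtCoh.bc g).obj V) (bcPt g η' rfl V t)) (unitSec f' (unitSec g s))) ?_).trans ?_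
  · rw [Functor.map_comp, Functor.map_comp, ConcreteCategory.comp_apply,
      ConcreteCategory.comp_apply]
    refine (congrArg (fun q => (EtCoh.stalk ξ'.1).map ((EtCore.pullComp f' g).hom.app F)
      ((EtCoh.stalk ξ'.1).map ((EtCore.pullCongr w).hom.app F) q))
      (germ_double_inv g' f ξ'.1 rfl hv F V t s)).trans ?_
    refine (congrArg ((EtCoh.stalk ξ'.1).map ((EtCore.pullComp f' g).hom.app F))
      (germ_pullCongr w ξ'.1 _ w' F V t s)).trans ?_
    exact germ_double f' g ξ'.1 ξ'.2 rfl F V t s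
  refine (pullAt_germ_unit f' ξ' ((EtCoh.pull g).obj F) ((EtCoh.bc g).obj V) _ _).trans ?_
  refine Eq.trans ?_ (congrArg ((stalkPullIso g η').inv.app F) hs)
  exact (germ_stalkPullIso_inv g η' F V t s).symm

theorem compAt_bc (hc : IsPullback g' f' f g) (F : EtCoh.Ab S) (ξ' : GeomFib f' η')
    (p : (EtCoh.stalk (η' ≫ g)).obj ((EtCoh.pull f ⋙ EtCoh.push f).obj F)) :
    compAt f' ξ' ((EtCoh.pull g).obj F)
      ((EtCoh.stalk η').map ((EtCoh.push f').map ((EtCore.pullComp g' f).inv.app F ≫ (EtCore.pullCongr hc.w).hom.app F ≫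
        (EtCore.pullComp f' g).hom.app F))
        ((EtCoh.stalk η').map (EtCoh.baseChange0 f g f' g' hc.w ((EtCoh.pull f).obj F))
          ((stalkPullIso g η').inv.app ((EtCoh.pull f ⋙ EtCoh.push f).obj F) p))) =
    (stalkPullIso g η').inv.app F (compAt f (baseChangeEquiv f hc η' ξ') F p) := by
  refine (congrArg ((pullAt f' ξ').hom.app ((EtCoh.pull g).obj F))
    (cmpAt_naturality f' ξ'.1 ξ'.2 ((EtCore.pullComp g' f).inv.app F ≫ (EtCore.pullCongr hc.w).hom.app F ≫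
        (EtCore.pullComp f' g).hom.app F) _)).trans ?_
  refine (congrArg (fun q => (pullAt f' ξ').hom.app ((EtCoh.pull g).obj F)
    ((EtCoh.stalk ξ'.1).map ((EtCore.pullComp g' f).inv.app F ≫ (EtCore.pullCongr hc.w).hom.app F ≫
        (EtCore.pullComp f' g).hom.app F) q))
    (cmpAt_baseChange0 f g f' g' hc.w ξ'.1 _ ξ'.2 (baseChangeEquiv f hc η' ξ').2 p)).trans ?_
  exact pullAt_bcPull f g f' g' hc.w F ξ' (baseChangeEquiv f hc η' ξ') rfl _ _ HEq.rfl

theorem tr_baseChange (hc : IsPullback g' f' f g) (F : EtCoh.Ab S) :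
    EtCoh.baseChange0 f g f' g' hc.w ((EtCoh.pull f).obj F) ≫
      (EtCoh.push f').map ((EtCore.pullComp g' f).inv.app F ≫ (EtCore.pullCongr hc.w).hom.app F ≫
        (EtCore.pullComp f' g).hom.app F) ≫ (tr f').app ((EtCoh.pull g).obj F) =
        (EtCoh.pull g).map ((tr f).app F) := by
  refine hom_ext_acPoint _ _ fun y => ?_
  let η' := acPoint S' y
  ext q
  obtain ⟨p, rfl⟩ := (ConcreteCategory.bijective_of_isIso
    ((stalkPullIso g η').inv.app ((EtCoh.pull f ⋙ EtCoh.push f).obj F))).2 q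
  refine Eq.trans ?_ (NatTrans.naturality_apply (stalkPullIso g η').inv ((tr f).app F) p)
  refine Eq.trans ?_ (congrArg ((stalkPullIso g η').inv.app F)
    (ConcreteCategory.congr_hom (stalk_tr f F) p)).symm
  rw [Functor.map_comp, Functor.map_comp, ConcreteCategory.comp_apply, ConcreteCategory.comp_apply]
  refine (ConcreteCategory.congr_hom (stalk_tr f' ((EtCoh.pull g).obj F)) _).trans ?_
  rw [traceAt_apply, traceAt_apply]
  have := Fintype.ofFinite (GeomFib f' η')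
  have := Fintype.ofFinite (GeomFib f (η' ≫ g))
  rw [finsum_eq_sum_of_fintype, finsum_eq_sum_of_fintype, map_sum]
  refine Fintype.sum_equiv (baseChangeEquiv f hc η') _ _ fun ξ' => ?_
  rw [map_zsmul]
  refine congrArg₂ (· • ·) ?_ (compAt_bc f g f' g' hc F ξ' p)
  refine (wt_baseChange f hc (Wt.GeomPts.pt ξ'.1)).trans (congrArg (FlatWt.wt f) ?_)
  exact (Scheme.Hom.comp_apply _ _ _).symm

end Groth.Agent.FlatTrace
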