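import Groth.Agent.FlatTrace.Var2

/-!
# The trace of a composite
-/

set_option autoImplicit false

universe u

open CategoryTheory CategoryTheory.Limits AlgebraicGeometry Opposite TopologicalSpace

noncomputable section

namespace Groth.Agent.FlatTrace

open EtaleSite EtaleSite.HpullFunctor PunctLib Wt Wt.GeomPts

variable {X Y S : Scheme.{u}} (h : X ⟶ Y) (g : Y ⟶ S)
  {Ω : Type u} [Field Ω] [IsAlgClosed Ω] {η : Spec (CommRingCat.of Ω) ⟶ S}

theorem pullAt_pullComp (ξ : GeomFib (h ≫ g) η) (ζ : GeomFib g η) (ξ' : GeomFib h ζ.1)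
    (e : ξ'.1 = ξ.1) (F : EtCoh.Ab S) (z : (EtCoh.stalk ξ.1).obj ((EtCoh.pull (h ≫ g)).obj F))
    (z' : (EtCoh.stalk ξ'.1).obj ((EtCoh.pull h).obj ((EtCoh.pull g).obj F)))
    (hz : HEq ((EtCoh.stalk ξ.1).map ((EtCore.pullComp h g).hom.app F) z) z') :
    (pullAt g ζ).hom.app F ((pullAt h ξ').hom.app ((EtCoh.pull g).obj F) z') =
      (pullAt (h ≫ g) ξ).hom.app F z := by
  obtain ⟨ξv, hξv⟩ := ξ'
  dsimp only at e z'
  subst e
  obtain rfl := eq_of_heq hz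
  obtain ⟨V, t, s, hs⟩ := exists_germ_eq η F ((pullAt (h ≫ g) ξ).hom.app F z)
  have hz' : z = germ ξ.1 ((EtCoh.pull (h ≫ g)).obj F) _ (bcPt (h ≫ g) ξ.1 ξ.2 V t) (unitSec (h ≫ g) s) :=
    (ConcreteCategory.bijective_of_isIso ((pullAt (h ≫ g) ξ).hom.app F)).1
      (hs.symm.trans (pullAt_germ_unit (h ≫ g) ξ F V t s).symm)
  refine Eq.trans ?_ hs
  refine (congrArg (fun q => (pullAt g ζ).hom.app F
    ((pullAt h ⟨ξ.1, hξv⟩).hom.app ((EtCoh.pull g).obj F) q))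
    ((congrArg _ hz').trans (germ_double h g ξ.1 hξv ζ.2 F V t s))).trans ?_
  refine (congrArg ((pullAt g ζ).hom.app F)
    (pullAt_germ_unit h ⟨ξ.1, hξv⟩ ((EtCoh.pull g).obj F) _ (bcPt g ζ.1 ζ.2 V t) (unitSec g s))).trans ?_
  exact pullAt_germ_unit g ζ F V t s

theorem germ_pushComp_inv (ξ : Spec (CommRingCat.of Ω) ⟶ X) {ζ : Spec (CommRingCat.of Ω) ⟶ Y}
    (hξ : ξ ≫ h = ζ) (hζ : ζ ≫ g = η) (K : EtCoh.Ab X) (V : S.Etale)
    (t : (Scheme.pointSmallEtale η).fiber.obj V) (s : ((EtCoh.push (h ≫ g)).obj K).obj.obj (op V)) :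
    germ ξ K ((EtCoh.bc (h ≫ g)).obj V)
      (bcPt (h ≫ g) ξ ((Category.assoc _ _ _).symm.trans ((congrArg (· ≫ g) hξ).trans hζ)) V t) s =
    germ ξ K ((EtCoh.bc h).obj ((EtCoh.bc g).obj V))
      (bcPt h ξ hξ ((EtCoh.bc g).obj V) (bcPt g ζ hζ V t))
      (((EtCoh.pushComp g h).inv.app K).hom.app (op V) s) := by
  subst hξ
  let s2 := ((EtCoh.pushComp g h).inv.app K).hom.app (op V) s
  have e : K.obj.map (bcComp h g V).op s2 = s :=
    congrArg (fun k : (EtCoh.push (h ≫ g)).obj K ⟶ (EtCoh.push (h ≫ g)).obj K => k.hom.app (op V) s)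
      ((EtCoh.pushComp g h).inv_hom_id_app K)
  refine (congrArg (germ ξ K _ _) e.symm).trans ((germ_res ξ K (bcComp h g V) _ s2).trans ?_)
  exact congrArg (fun q => germ ξ K _ q s2) (bcComp_point h g ξ _ V t)

variable [IsFinite h] [Flat h] [LocallyOfFinitePresentation h]
  [IsFinite g] [Flat g] [LocallyOfFinitePresentation g]
  [IsFinite (h ≫ g)] [Flat (h ≫ g)] [LocallyOfFinitePresentation (h ≫ g)]

theorem compAt_comp (F : EtCoh.Ab S) (V : S.Etale) (t : (Scheme.pointSmallEtale η).fiber.obj V)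
    (s : ((EtCoh.pull (h ≫ g) ⋙ EtCoh.push (h ≫ g)).obj F).obj.obj (op V)) :
    traceAt g F (germ η ((EtCoh.pull g ⋙ EtCoh.push g).obj F) V t
      (((tr h).app ((EtCoh.pull g).obj F)).hom.app (op ((EtCoh.bc g).obj V))
        (((EtCoh.pushComp g h).inv.app ((EtCoh.pull h).obj ((EtCoh.pull g).obj F))).hom.app (op V)
          (((EtCore.pullComp h g).hom.app F).hom.app (op ((EtCoh.bc (h ≫ g)).obj V)) s)))) =
    traceAt (h ≫ g) F (germ η ((EtCoh.pull (h ≫ g) ⋙ EtCoh.push (h ≫ g)).obj F) V t s) := by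
  have := Fintype.ofFinite (GeomFib g η)
  have := Fintype.ofFinite (GeomFib (h ≫ g) η)
  have : ∀ ζ : GeomFib g η, Fintype (GeomFib h ζ.1) := fun ζ => Fintype.ofFinite _
  let K := (EtCoh.pull h).obj ((EtCoh.pull g).obj F)
  let s2 := ((EtCoh.pushComp g h).inv.app K).hom.app (op V)
    (((EtCore.pullComp h g).hom.app F).hom.app (op ((EtCoh.bc (h ≫ g)).obj V)) s)
  rw [traceAt_apply, traceAt_apply, finsum_eq_sum_of_fintype, finsum_eq_sum_of_fintype]
  have e1 : ∀ ζ : GeomFib g η, compAt g ζ F (germ η ((EtCoh.pull g ⋙ EtCoh.push g).obj F) V t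
      (((tr h).app ((EtCoh.pull g).obj F)).hom.app (op ((EtCoh.bc g).obj V)) s2)) =
      ∑ ξ : GeomFib h ζ.1, FlatWt.wt h (Wt.GeomPts.pt ξ.1) •
        (pullAt g ζ).hom.app F (compAt h ξ ((EtCoh.pull g).obj F)
          (germ ζ.1 ((EtCoh.pull h ⋙ EtCoh.push h).obj ((EtCoh.pull g).obj F)) ((EtCoh.bc g).obj V)
            (bcPt g ζ.1 ζ.2 V t) s2)) := fun ζ => by
    refine (compAt_germ g ζ F V t _).trans ?_
    refine (congrArg ((pullAt g ζ).hom.app F)
      ((germ_naturality ζ.1 ((tr h).app ((EtCoh.pull g).obj F)) _ _ s2).symm.trans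
        ((ConcreteCategory.congr_hom (stalk_tr h ((EtCoh.pull g).obj F)) _).trans
          (traceAt_apply h ((EtCoh.pull g).obj F) _)))).trans ?_
    rw [finsum_eq_sum_of_fintype, map_sum]
    exact Finset.sum_congr rfl fun ξ _ => map_zsmul _ _ _
  refine (Finset.sum_congr rfl fun ζ _ => by rw [e1 ζ, Finset.smul_sum]).trans ?_
  refine (Fintype.sum_sigma (fun p : Σ ζ : GeomFib g η, GeomFib h ζ.1 => FlatWt.wt g (Wt.GeomPts.pt p.1.1) •
    FlatWt.wt h (Wt.GeomPts.pt p.2.1) • (pullAt g p.1).hom.app F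
      (compAt h p.2 ((EtCoh.pull g).obj F)
        (germ p.1.1 _ ((EtCoh.bc g).obj V) (bcPt g p.1.1 p.1.2 V t) s2)))).symm.trans ?_
  refine (Fintype.sum_equiv (GeomPts.compEquiv h g η).symm _ _ ?_)
  rintro ⟨⟨ζ, hζ⟩, ξ, (rfl : ξ ≫ h = ζ)⟩
  rw [smul_smul]
  refine congrArg₂ (· • ·) ?_ ?_
  · refine Eq.trans ?_ (wt_comp h g (Wt.GeomPts.pt ξ)).symm
    congr 2
  · let x : GeomFib (h ≫ g) η := ⟨ξ, (Category.assoc _ _ _).symm.trans hζ⟩
    refine Eq.trans ?_ (compAt_germ (h ≫ g) x F V t s).symm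
    refine (congrArg ((pullAt g ⟨ξ ≫ h, hζ⟩).hom.app F) (compAt_germ h ⟨ξ, rfl⟩ _ _ _ s2)).trans ?_
    refine pullAt_pullComp h g x ⟨ξ ≫ h, hζ⟩ ⟨ξ, rfl⟩ rfl F _ _ (heq_of_eq ?_)
    refine (germ_naturality ξ ((EtCore.pullComp h g).hom.app F) _ _ s).trans ?_
    exact germ_pushComp_inv h g ξ rfl hζ K V t _

theorem tr_comp (F : EtCoh.Ab S) :
    (tr (h ≫ g)).app F =
      (EtCoh.push (h ≫ g)).map ((EtCore.pullComp h g).hom.app F) ≫
        (EtCoh.pushComp g h).inv.app ((EtCoh.pull h).obj ((EtCoh.pull g).obj F)) ≫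
        (EtCoh.push g).map ((tr h).app ((EtCoh.pull g).obj F)) ≫ (tr g).app F := by
  refine hom_ext_acPoint _ _ fun y => ?_
  let η := acPoint S y
  ext p
  obtain ⟨V, t, s, rfl⟩ := exists_germ_eq η _ p
  refine (ConcreteCategory.congr_hom (stalk_tr (h ≫ g) F) _).trans ?_
  refine (compAt_comp h g F V t s).symm.trans ?_
  rw [Functor.map_comp, Functor.map_comp, Functor.map_comp, ConcreteCategory.comp_apply,
    ConcreteCategory.comp_apply, ConcreteCategory.comp_apply]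
  refine (ConcreteCategory.congr_hom (stalk_tr g F) _).symm.trans
    (congrArg ((EtCoh.stalk η).map ((tr g).app F)) ?_)
  symm
  refine (congrArg (fun q => (EtCoh.stalk η).map ((EtCoh.push g).map ((tr h).app ((EtCoh.pull g).obj F)))
    ((EtCoh.stalk η).map ((EtCoh.pushComp g h).inv.app ((EtCoh.pull h).obj ((EtCoh.pull g).obj F))) q))
    (germ_naturality η ((EtCoh.push (h ≫ g)).map ((EtCore.pullComp h g).hom.app F)) V t s)).trans ?_
  refine (congrArg ((EtCoh.stalk η).map ((EtCoh.push g).map ((tr h).app ((EtCoh.pull g).obj F))))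
    (germ_naturality η ((EtCoh.pushComp g h).inv.app _) V t _)).trans ?_
  exact germ_naturality η ((EtCoh.push g).map ((tr h).app ((EtCoh.pull g).obj F))) V t _

end Groth.Agent.FlatTrace
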