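import Groth.Agent.FlatTrace.Basic

/-!
# Multiplicities of the points of finite flat morphisms

Composition and base change.
-/

set_option autoImplicit false

universe u

open CategoryTheory CategoryTheory.Limits AlgebraicGeometry Opposite TopologicalSpace

noncomputable section

namespace Groth.Agent.FlatTrace

open EtaleSite Wt Wt.GeomPts

variable {X S : Scheme.{u}}

theorem ringLen_comp {A B C : CommRingCat.{u}} [IsLocalRing A] [IsLocalRing B]
    [IsLocalRing C] (φ : A ⟶ B) (ψ : B ⟶ C) [IsLocalHom ψ.hom] (hflat : ψ.hom.Flat) :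
    FlatWt.ringLen (φ ≫ ψ) = FlatWt.ringLen φ * FlatWt.ringLen ψ := by
  algebraize [ψ.hom]
  have : IsLocalHom (algebraMap B C) := ‹_›
  let I := (IsLocalRing.maximalIdeal A).map φ.hom
  have e := (Algebra.TensorProduct.quotIdealMapEquivTensorQuot C I).toLinearEquiv.length_eq
  rw [FlatWt.ringLen, FlatWt.ringLen, FlatWt.ringLen, CommRingCat.hom_comp, ← Ideal.map_map]
  show (Module.length C (C ⧸ I.map (algebraMap B C))).toNat = _
  rw [e, IsLocalRing.length_baseChange, ENat.toNat_mul]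
  rfl

theorem wt_comp {Y : Scheme.{u}} (h : X ⟶ Y) (g : Y ⟶ S) [Flat h] [LocallyQuasiFinite g]
    [LocallyOfFiniteType g] (x : X) :
    FlatWt.wt (h ≫ g) x = FlatWt.wt g (h x) * FlatWt.wt h x := by
  have e : FlatWt.ringLen ((h ≫ g).stalkMap x) =
      FlatWt.ringLen (g.stalkMap (h x)) * FlatWt.ringLen (h.stalkMap x) := by
    rw [Scheme.Hom.stalkMap_comp]
    exact ringLen_comp (g.stalkMap (h x)) (h.stalkMap x) (Flat.stalkMap h x)
  rw [FlatWt.wt, FlatWt.wt, FlatWt.wt, FlatWt.ins_comp h g x (GeomPts.residueFieldMap_finite g _), e]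
  push_cast
  ring

theorem pt_eq {Ω : Type u} [Field Ω] {U : Scheme.{u}} (z : Spec (CommRingCat.of Ω) ⟶ U) :
    z default = GeomPts.pt z := GeomPts.eq_pt z _

variable (f : X ⟶ S) [IsFinite f] [Flat f] [LocallyOfFinitePresentation f]
  {Ω : Type u} [Field Ω] [IsAlgClosed Ω]

/-- The weight of a point is the rank of a neighbourhood in which it is the only point above. -/
theorem wt_eq_finrank (V : S.Etale) (y : Spec (CommRingCat.of Ω) ⟶ V.left)
    (O : (pullback (V.hom : V.left ⟶ S) f).Opens)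
    [IsFinite (O.ι ≫ pullback.fst (V.hom : V.left ⟶ S) f)]
    (z : Spec (CommRingCat.of Ω) ⟶ pullback (V.hom : V.left ⟶ S) f)
    (hz : z ≫ pullback.fst (V.hom : V.left ⟶ S) f = y) (hzO : GeomPts.pt z ∈ O)
    (huniq : ∀ z' : Spec (CommRingCat.of Ω) ⟶ pullback (V.hom : V.left ⟶ S) f,
      z' ≫ pullback.fst (V.hom : V.left ⟶ S) f = y → GeomPts.pt z' ∈ O → z' = z)
    [Flat (O.ι ≫ pullback.fst (V.hom : V.left ⟶ S) f)] :
    FlatWt.wt f (GeomPts.pt (z ≫ pullback.snd (V.hom : V.left ⟶ S) f)) =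
      ((O.ι ≫ pullback.fst (V.hom : V.left ⟶ S) f).finrank (GeomPts.pt y) : ℤ) := by
  let q := pullback.fst (V.hom : V.left ⟶ S) f
  let a := pullback.snd (V.hom : V.left ⟶ S) f
  let π := O.ι ≫ q
  have : Etale a := MorphismProperty.pullback_snd _ _ V.prop
  have : LocallyQuasiFinite π := inferInstance
  have hc : (O.ι ≫ a) ≫ f = π ≫ (V.hom : V.left ⟶ S) :=
    (Category.assoc _ _ _).trans ((congrArg (O.ι ≫ ·) pullback.condition.symm).trans
      (Category.assoc _ _ _).symm)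
  have : Etale (O.ι ≫ a) := by
    have : Etale O.ι := inferInstance
    exact MorphismProperty.comp_mem _ _ _ ‹Etale O.ι› ‹Etale a›
  have hwt : ∀ p, FlatWt.wt π p = FlatWt.wt f (a (O.ι p)) := fun p =>
    (FlatWt.wt_eq_of_comm f π (O.ι ≫ a) (V.hom : V.left ⟶ S) hc p).symm
  have : Finite {u // π u = GeomPts.pt y} := (π.finite_preimage_singleton _).to_subtype
  rw [← FlatWt.fibreIntegral_eq_finrank, ← geomInt_eq_fibreIntegral π y, geomInt]
  let z₀ : GeomFib π y := (Master.openEquiv q O y).symm ⟨⟨z, hz⟩, hzO⟩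
  have hz₀ : ∀ x : GeomFib π y, x = z₀ := fun x => by
    refine (Master.openEquiv q O y).injective ?_
    rw [Equiv.apply_symm_apply]
    exact Subtype.ext (Subtype.ext (huniq _ ((Master.openEquiv q O y) x).1.2
      ((Master.openEquiv q O y) x).2))
  rw [finsum_eq_single _ z₀ (fun x hx => absurd (hz₀ x) hx), hwt]
  refine congrArg (FlatWt.wt f) ?_
  rw [← pt_eq, ← pt_eq]
  have h1 : z₀.1 ≫ O.ι = z := IsOpenImmersion.lift_fac _ _ _
  exact (Scheme.Hom.comp_apply z a _).trans (congrArg a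
    ((congrArg (fun k : Spec (CommRingCat.of Ω) ⟶ pullback (V.hom : V.left ⟶ S) f => k default)
      h1.symm).trans (Scheme.Hom.comp_apply z₀.1 O.ι _)))

/-- Every point above an algebraically closed point is alone in an open finite over an étale
neighbourhood. -/
theorem exists_single {η : Spec (CommRingCat.of Ω) ⟶ S} (ξ : GeomFib f η) :
    ∃ (V : S.Etale) (y : Spec (CommRingCat.of Ω) ⟶ V.left)
      (_ : y ≫ (V.hom : V.left ⟶ S) = η) (O : (pullback (V.hom : V.left ⟶ S) f).Opens)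
      (z : Spec (CommRingCat.of Ω) ⟶ pullback (V.hom : V.left ⟶ S) f),
      IsFinite (O.ι ≫ pullback.fst (V.hom : V.left ⟶ S) f) ∧
      z ≫ pullback.fst (V.hom : V.left ⟶ S) f = y ∧
      z ≫ pullback.snd (V.hom : V.left ⟶ S) f = ξ.1 ∧ GeomPts.pt z ∈ O ∧
      ∀ z' : Spec (CommRingCat.of Ω) ⟶ pullback (V.hom : V.left ⟶ S) f,
        z' ≫ pullback.fst (V.hom : V.left ⟶ S) f = y → GeomPts.pt z' ∈ O → z' = z := by
  classical
  have := Fintype.ofFinite (GeomFib f η)
  let C : GeomFib f η → Scheme.{u} := fun _ => X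
  let g : (∐ C) ⟶ X := Sigma.desc fun _ => 𝟙 X
  have : Etale g := etale_sigmaDesc _
  have hg : ∀ ζ, Sigma.ι C ζ ≫ g = 𝟙 X := fun ζ => Sigma.ι_desc _ ζ
  obtain ⟨V, y, hy, h, hh, hφ⟩ := split_finite f η (𝟙 _) g
    (fun ζ hζ => ζ ≫ Sigma.ι C ⟨ζ, hζ.trans (Category.id_comp η)⟩)
    (fun ζ hζ => by rw [Category.assoc, hg]; exact Category.comp_id ζ)
  obtain ⟨W, hd, hc, hk⟩ := exists_pieces h
  choose k hk using hk
  have hin : ∀ (ζ : GeomFib f η) (z' : Spec (CommRingCat.of Ω) ⟶ pullback (V.hom : V.left ⟶ S) f),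
      z' ≫ pullback.fst (V.hom : V.left ⟶ S) f = y →
      z' ≫ pullback.snd (V.hom : V.left ⟶ S) f = ζ.1 → GeomPts.pt z' ∈ W ζ := by
    intro ζ z' h1 h2
    have hℓ : z' ≫ h = ζ.1 ≫ Sigma.ι C ζ := by
      refine Eq.trans ?_ (hφ ζ.1 (ζ.2.trans (Category.id_comp η).symm))
      refine congrArg (· ≫ h) (pullback.hom_ext ?_ ?_)
      · rw [pullback.lift_fst, Category.id_comp]; exact h1
      · rw [pullback.lift_snd]; exact h2
    rw [← pt_eq]
    obtain ⟨b, hb⟩ := hc (z' default)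
    by_cases hab : b = ζ
    · exact hab ▸ hb
    · exfalso
      have h1' : h (z' default) ∈ (Sigma.ι C ζ).opensRange :=
        ⟨ζ.1 default, (congrArg (fun q => q default) hℓ).symm⟩
      have h2' : h (z' default) ∈ (Sigma.ι C b).opensRange :=
        ⟨k b ⟨z' default, hb⟩, congrArg (fun q => q ⟨z' default, hb⟩) (hk b)⟩
      exact (disjoint_opensRange_sigmaι C b ζ hab).le_bot
        (show h (z' default) ∈ _ ⊓ _ from ⟨h2', h1'⟩)
  let z : Spec (CommRingCat.of Ω) ⟶ pullback (V.hom : V.left ⟶ S) f :=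
    pullback.lift y ξ.1 (hy.trans ξ.2.symm)
  refine ⟨V, y, hy, W ξ, z, ?_, pullback.lift_fst _ _ _, pullback.lift_snd _ _ _,
    hin ξ z (pullback.lift_fst _ _ _) (pullback.lift_snd _ _ _), fun z' hz' hO => ?_⟩
  · have : IsFinite (pullback.fst (V.hom : V.left ⟶ S) f) :=
      MorphismProperty.pullback_fst _ _ ‹IsFinite f›
    have hcl : IsClosed (Set.range (W ξ).ι) := by
      rw [Scheme.Opens.range_ι]
      have e : (W ξ : Set (pullback (V.hom : V.left ⟶ S) f : Scheme.{u})) =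
          (⋃ ζ, ⋃ (_ : ζ ≠ ξ), (W ζ : Set (pullback (V.hom : V.left ⟶ S) f : Scheme.{u})))ᶜ := by
        ext w
        simp only [Set.mem_compl_iff, Set.mem_iUnion, not_exists]
        refine ⟨fun hw ζ hne hw' => (hd ζ ξ hne).le_bot (show w ∈ W ζ ⊓ W ξ from ⟨hw', hw⟩), fun hw => ?_⟩
        obtain ⟨ζ, hζ⟩ := hc w
        by_cases hne : ζ = ξ
        · exact hne ▸ hζ
        · exact absurd hζ (hw ζ hne)
      rw [e]
      exact (isOpen_iUnion fun ζ => isOpen_iUnion fun _ => (W ζ).2).isClosed_compl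
    have : IsClosedImmersion (W ξ).ι := .of_isPreimmersion _ hcl
    infer_instance
  · let ζ : GeomFib f η := ⟨z' ≫ pullback.snd (V.hom : V.left ⟶ S) f,
      (Category.assoc _ _ _).trans ((congrArg (z' ≫ ·) pullback.condition.symm).trans
        ((Category.assoc _ _ _).symm.trans ((congrArg (· ≫ (V.hom : V.left ⟶ S)) hz').trans hy)))⟩
    have h2 := hin ζ z' hz' rfl
    by_cases hne : ζ = ξ
    · refine pullback.hom_ext (hz'.trans (pullback.lift_fst _ _ _).symm) ?_
      exact (congrArg Subtype.val hne).trans (pullback.lift_snd _ _ _).symm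
    · exact ((hd ζ ξ hne).le_bot (show GeomPts.pt z' ∈ W ζ ⊓ W ξ from ⟨h2, hO⟩)).elim

/-- The weight is invariant under base change. -/
theorem wt_baseChange {S' X' : Scheme.{u}} {g : S' ⟶ S} {f' : X' ⟶ S'} {g' : X' ⟶ X}
    (hc : IsPullback g' f' f g) [IsFinite f'] [Flat f'] [LocallyOfFinitePresentation f'] (x : X') :
    FlatWt.wt f' x = FlatWt.wt f (g' x) := by
  obtain ⟨η', hη'⟩ := exists_geomPt (f' x)
  have := finite_fib f' (pt η')
  obtain ⟨ξ', hξ'⟩ := surjective_pt f' η' ⟨x, hη'.symm⟩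
  have hx : pt ξ'.1 = x := congrArg Subtype.val hξ'
  let ξ : GeomFib f (η' ≫ g) := baseChangeEquiv f hc η' ξ'
  obtain ⟨V, y, hy, O, z, hO, hz1, hz2, hzO, huniq⟩ := exists_single f ξ
  let V' : S'.Etale := (EtCoh.bc g).obj V
  let pr : V'.left ⟶ V.left := pullback.fst (V.hom : V.left ⟶ S) g
  let q : pullback (V.hom : V.left ⟶ S) f ⟶ V.left := pullback.fst _ _
  let q' : pullback (V'.hom : V'.left ⟶ S') f' ⟶ V'.left := pullback.fst _ _
  have hout : IsPullback (pullback.snd (V'.hom : V'.left ⟶ S') f' ≫ g') q' f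
      ((V'.hom : V'.left ⟶ S') ≫ g) :=
    (IsPullback.of_hasPullback (V'.hom : V'.left ⟶ S') f').flip.paste_horiz hc
  have hw : (V'.hom : V'.left ⟶ S') ≫ g = pr ≫ (V.hom : V.left ⟶ S) :=
    (pullback.condition (f := (V.hom : V.left ⟶ S)) (g := g)).symm
  let m : pullback (V'.hom : V'.left ⟶ S') f' ⟶ pullback (V.hom : V.left ⟶ S) f :=
    pullback.lift (q' ≫ pr) (pullback.snd _ _ ≫ g')
      ((Category.assoc _ _ _).trans ((congrArg (q' ≫ ·) hw.symm).trans hout.w.symm))
  have hm2 : m ≫ pullback.snd (V.hom : V.left ⟶ S) f = pullback.snd _ _ ≫ g' := pullback.lift_snd _ _ _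
  have hsq : IsPullback m q' q pr := by
    refine IsPullback.of_right ?_ (pullback.lift_fst _ _ _)
      (IsPullback.of_hasPullback (V.hom : V.left ⟶ S) f).flip
    rw [hm2, ← hw]
    exact hout
  let O' : (pullback (V'.hom : V'.left ⟶ S') f').Opens := m ⁻¹ᵁ O
  have hO' : IsFinite (O'.ι ≫ q') := Parts.isFinite_preimage pr hsq O hO
  have hflat : Flat (pullback.fst (V.hom : V.left ⟶ S) f) := MorphismProperty.pullback_fst _ _ ‹Flat f›
  have hflat' : Flat (pullback.fst (V'.hom : V'.left ⟶ S') f') :=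
    MorphismProperty.pullback_fst _ _ ‹Flat f'›
  let y' : Spec (CommRingCat.of (AlgebraicClosure (S'.residueField (f' x)))) ⟶ V'.left :=
    pullback.lift y η' hy
  have hy' : y' ≫ pr = y := pullback.lift_fst _ _ _
  let z' : Spec (CommRingCat.of (AlgebraicClosure (S'.residueField (f' x)))) ⟶
      pullback (V'.hom : V'.left ⟶ S') f' :=
    pullback.lift y' ξ'.1 ((pullback.lift_snd _ _ _).trans ξ'.2.symm)
  have hz'm : z' ≫ m = z := pullback.hom_ext
    ((Category.assoc _ _ _).trans ((congrArg (z' ≫ ·) (pullback.lift_fst _ _ _)).trans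
      ((Category.assoc _ _ _).symm.trans ((congrArg (· ≫ pr) (pullback.lift_fst _ _ _)).trans
        (hy'.trans hz1.symm)))))
    ((Category.assoc _ _ _).trans ((congrArg (z' ≫ ·) (pullback.lift_snd _ _ _)).trans
      ((Category.assoc _ _ _).symm.trans ((congrArg (· ≫ g') (pullback.lift_snd _ _ _)).trans hz2.symm))))
  have e1 := wt_eq_finrank f V y O z hz1 hzO huniq
  have e2 := wt_eq_finrank f' V' y' O' z' (pullback.lift_fst _ _ _)
    (by
      show m (GeomPts.pt z') ∈ O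
      rw [← pt_eq, ← Scheme.Hom.comp_apply, hz'm, pt_eq]
      exact hzO)
    (fun w hw1 hw2 => by
      refine hsq.hom_ext ?_ (hw1.trans (pullback.lift_fst _ _ _).symm)
      rw [hz'm]
      refine huniq _ ?_ ?_
      · exact (Category.assoc _ _ _).trans ((congrArg (w ≫ ·) (pullback.lift_fst _ _ _)).trans
          ((Category.assoc _ _ _).symm.trans ((congrArg (· ≫ pr) hw1).trans hy')))
      · rw [← pt_eq, Scheme.Hom.comp_apply, pt_eq]
        exact hw2)
  have hsqO : IsPullback (m ∣_ O) (O'.ι ≫ q') (O.ι ≫ q) pr :=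
    (isPullback_morphismRestrict m O).paste_vert hsq
  have e3 : (O'.ι ≫ q').finrank (GeomPts.pt y') = (O.ι ≫ q).finrank (GeomPts.pt y) := by
    rw [Scheme.Hom.finrank_of_isPullback _ _ _ _ hsqO, ← hy', ← pt_eq, ← pt_eq, Scheme.Hom.comp_apply]
  have e4 : z' ≫ pullback.snd (V'.hom : V'.left ⟶ S') f' = ξ'.1 := pullback.lift_snd _ _ _
  rw [e4, hx, e3] at e2
  rw [hz2] at e1
  rw [e2, ← e1]
  refine congrArg (FlatWt.wt f) ?_
  refine Eq.trans ?_ (congrArg g' hx)
  rfl

theorem finrank_id (s : S) : (𝟙 S : S ⟶ S).finrank s = 1 :=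
  congrFun (Scheme.Hom.finrank_eq_one_of_isIso (𝟙 S)) s

/-- The weight of an open immersion is one. -/
theorem wt_openImmersion {U : Scheme.{u}} (i : U ⟶ S) [IsOpenImmersion i] (x : U) :
    FlatWt.wt i x = 1 := by
  have h := FlatWt.wt_eq_of_comm (𝟙 S) i i (𝟙 S) rfl x
  rw [← h]
  have h1 := FlatWt.fibreIntegral_eq_finrank (𝟙 S) (i x)
  have : Finite {u : S // (𝟙 S : S ⟶ S) u = i x} := ((𝟙 S : S ⟶ S).finite_preimage_singleton _).to_subtype
  obtain ⟨η, hη⟩ := exists_geomPt (i x)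
  have : Finite {u : S // (𝟙 S : S ⟶ S) u = GeomPts.pt η} :=
    ((𝟙 S : S ⟶ S).finite_preimage_singleton _).to_subtype
  rw [← hη, ← geomInt_eq_fibreIntegral (𝟙 S) η, geomInt] at h1
  let ξ : GeomFib (𝟙 S) η := ⟨η, Category.comp_id η⟩
  rw [finsum_eq_single _ ξ (fun ζ hζ => absurd (Subtype.ext ((Category.comp_id ζ.1).symm.trans ζ.2)) hζ),
    finrank_id] at h1
  exact (congrArg (FlatWt.wt (𝟙 S)) hη.symm).trans (h1.trans Nat.cast_one)

end Groth.Agent.FlatTrace
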